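import Mathlib

/-!
Words in numbered letters acting on numbered points, with a base that determines the element.
The first letter of a word acts first.
-/

set_option autoImplicit false

namespace H77
namespace HN

variable {G : Type*} [Group G]

/-- value of a word -/
def evw (gen : ℕ → G) : List ℕ → G
  | [] => 1
  | l :: w => evw gen w * gen l

@[simp] theorem evw_nil (gen : ℕ → G) : evw gen [] = 1 := rfl

@[simp] theorem evw_cons (gen : ℕ → G) (l : ℕ) (w : List ℕ) :
    evw gen (l :: w) = evw gen w * gen l := rfl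

@[simp] theorem evw_append (gen : ℕ → G) (u v : List ℕ) :
    evw gen (u ++ v) = evw gen v * evw gen u := by
  induction u with
  | nil => simp
  | cons l u ih => simp [ih, mul_assoc]

theorem evw_singleton (gen : ℕ → G) (l : ℕ) : evw gen [l] = gen l := by simp

/-- the word of the inverse -/
def invw (iv : ℕ → ℕ) (w : List ℕ) : List ℕ := (w.map iv).reverse

theorem evw_invw {gen : ℕ → G} {iv : ℕ → ℕ} (hiv : ∀ l, gen (iv l) = (gen l)⁻¹) (w : List ℕ) :
    evw gen (invw iv w) = (evw gen w)⁻¹ := by
  induction w with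
  | nil => simp [invw]
  | cons l w ih => simp only [invw] at ih; simp [invw, ih, hiv]

theorem evw_map {H : Type*} [Group H] (f : G →* H) (gen : ℕ → G) (w : List ℕ) :
    evw (fun l => f (gen l)) w = f (evw gen w) := by
  induction w with
  | nil => simp
  | cons l w ih => simp [ih]

theorem evw_mem {gen : ℕ → G} {K : Subgroup G} {w : List ℕ} (h : ∀ l ∈ w, gen l ∈ K) :
    evw gen w ∈ K := by
  induction w with
  | nil => simp
  | cons l w ih =>
    simp only [List.mem_cons, forall_eq_or_imp] at h
    simpa using K.mul_mem (ih h.2) h.1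

/-- evaluate `k` at the value of `x` -/
noncomputable def frc {α : Type} (x : ℕ) (k : ℕ → α) : α :=
  Nat.rec (motive := fun _ => α) (k 0) (fun m _ => k (Nat.succ m)) x

theorem frc_eq {α : Type} (x : ℕ) (k : ℕ → α) : frc x k = k x := by
  cases x <;> rfl

/-- end of the path of a word -/
def run (T : ℕ → ℕ → ℕ) : List ℕ → ℕ → ℕ
  | [], p => p
  | l :: w, p => run T w (T l p)

/-- the same, one step at a time -/
noncomputable def runK (T : ℕ → ℕ → ℕ) (w : List ℕ) (p : ℕ) : ℕ :=
  List.rec (motive := fun _ => ℕ → ℕ) (fun p => p) (fun l _ ih p => frc (T l p) ih) w p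

theorem runK_eq (T : ℕ → ℕ → ℕ) (w : List ℕ) (p : ℕ) : runK T w p = run T w p := by
  induction w generalizing p with
  | nil => rfl
  | cons l w ih =>
    show frc (T l p) (fun q => runK T w q) = _
    rw [frc_eq]; exact ih _

theorem run_append (T : ℕ → ℕ → ℕ) (u v : List ℕ) (p : ℕ) :
    run T (u ++ v) p = run T v (run T u p) := by
  induction u generalizing p with
  | nil => rfl
  | cons l u ih => exact ih _

/-- a word packed into a number: `0` is empty, `Q * c + (l + 1)` starts with `l`, `Q = 512` -/
def unpackAux : ℕ → ℕ → List ℕ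
  | 0, _ => []
  | f + 1, c => if c = 0 then [] else (c % 512 - 1) :: unpackAux f (c / 512)

def unpack (c : ℕ) : List ℕ := unpackAux 1000 c

/-- two words agree on a list of points -/
noncomputable def agree (T : ℕ → ℕ → ℕ) (B : List ℕ) (u v : List ℕ) : Bool :=
  B.all fun b => Nat.beq (runK T u b) (runK T v b)

/-- an action on `n` numbered points given by a table -/
structure Rep (gen : ℕ → G) (n : ℕ) (T : ℕ → ℕ → ℕ) where
  φ : G →* Equiv.Perm (Fin n)
  spec : ∀ l (p : Fin n), (φ (gen l) p : ℕ) = T l p

namespace Rep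

variable {gen : ℕ → G} {n : ℕ} {T : ℕ → ℕ → ℕ} (R : Rep gen n T)

theorem evw_apply (w : List ℕ) (p : Fin n) : (R.φ (evw gen w) p : ℕ) = run T w p := by
  induction w generalizing p with
  | nil => simp [run]
  | cons l w ih =>
    simp only [evw_cons, map_mul, Equiv.Perm.mul_apply, ih, R.spec, run]

theorem run_lt (R : Rep gen n T) (w : List ℕ) {p : ℕ} (hp : p < n) : run T w p < n :=
  R.evw_apply w ⟨p, hp⟩ ▸ (R.φ (evw gen w) ⟨p, hp⟩).2

/-- the base determines the element -/
def IsBase (R : Rep gen n T) (B : List ℕ) : Prop :=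
  (∀ b ∈ B, b < n) ∧ ∀ g : G, (∀ p : Fin n, (p : ℕ) ∈ B → R.φ g p = p) → g = 1

theorem evw_eq_of_agree {B : List ℕ} (hB : R.IsBase B) {u v : List ℕ}
    (h : agree T B u v = true) : evw gen u = evw gen v := by
  have key : (evw gen v)⁻¹ * evw gen u = 1 := by
    refine hB.2 _ fun p hp => ?_
    have h1 := List.all_eq_true.mp h p hp
    rw [Nat.beq_eq, runK_eq, runK_eq] at h1
    have h2 : R.φ (evw gen u) p = R.φ (evw gen v) p := Fin.ext (by rw [R.evw_apply, R.evw_apply, h1])
    rw [map_mul, Equiv.Perm.mul_apply, h2, map_inv]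
    simp
  exact (inv_mul_eq_one.mp key).symm

/-- the stabiliser of one point -/
def fixPt (R : Rep gen n T) (p : Fin n) : Subgroup G where
  carrier := {g | R.φ g p = p}
  one_mem' := by simp
  mul_mem' := fun {a b} ha hb => by
    show R.φ (a * b) p = p
    simp [Set.mem_setOf_eq.mp ha, Set.mem_setOf_eq.mp hb]
  inv_mem' := fun {a} ha => by
    show R.φ a⁻¹ p = p
    rw [map_inv, Equiv.Perm.inv_eq_iff_eq]
    exact (Set.mem_setOf_eq.mp ha).symm

theorem mem_fixPt {p : Fin n} {g : G} : g ∈ R.fixPt p ↔ R.φ g p = p := Iff.rfl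

end Rep

end HN
end H77
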