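import Mathlib
import Cfsg.Agent.H77.HN.Words

/-!
A lower bound for an order from words that move base points to many places, and what follows when
the bound meets an upper bound.
-/

set_option autoImplicit false

namespace H77
namespace HN

/-- the words are in the letters, fix the earlier points and move `b` to increasing places -/
noncomputable def levelCheck (T : ℕ → ℕ → ℕ) (letters pre : List ℕ) (b : ℕ) : List ℕ → ℕ → Bool
  | [], _ => true
  | c :: cs, last =>
    ((unpack c).all fun l => letters.contains l) &&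
      (pre.all fun p => Nat.beq (runK T (unpack c) p) p) &&
      frc (runK T (unpack c) b) fun v => Nat.ble last v && levelCheck T letters pre b cs (v + 1)

/-- all levels -/
noncomputable def chainCheck (T : ℕ → ℕ → ℕ) (letters : List ℕ) : List ℕ → List (ℕ × List ℕ) → Bool
  | _, [] => true
  | pre, (b, cs) :: ls => levelCheck T letters pre b cs 0 && chainCheck T letters (pre ++ [b]) ls

/-- the product of the orbit lengths -/
def chainOrd : List (ℕ × List ℕ) → ℕ
  | [] => 1
  | (_, cs) :: ls => cs.length * chainOrd ls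

variable {N : Type*} [Group N] {gen : ℕ → N} {n : ℕ} {T : ℕ → ℕ → ℕ}

/-- the elements of `K` fixing the listed points -/
def fixList (R : Rep gen n T) (K : Subgroup N) (pre : List ℕ) : Subgroup N :=
  K ⊓ ⨅ p ∈ {q : Fin n | (q : ℕ) ∈ pre}, R.fixPt p

theorem mem_fixList {R : Rep gen n T} {K : Subgroup N} {pre : List ℕ} {g : N} :
    g ∈ fixList R K pre ↔ g ∈ K ∧ ∀ p : Fin n, (p : ℕ) ∈ pre → R.φ g p = p := by
  simp [fixList, Subgroup.mem_iInf, Rep.mem_fixPt]

theorem levelCheck_spec (R : Rep gen n T) {letters pre : List ℕ} {b : ℕ} (hb : b < n) :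
    ∀ {cs : List ℕ} {last : ℕ}, levelCheck T letters pre b cs last = true →
      ∃ g : Fin cs.length → N,
        (∀ j, g j ∈ fixList R (Subgroup.closure (gen '' {l | l ∈ letters})) pre) ∧
        (∀ j, last ≤ (R.φ (g j) ⟨b, hb⟩ : ℕ)) ∧
        Function.Injective fun j => R.φ (g j) ⟨b, hb⟩ := by
  intro cs
  induction cs with
  | nil => exact fun _ => ⟨fun j => j.elim0, fun j => j.elim0, fun j => j.elim0, fun j => j.elim0⟩
  | cons c cs ih =>
    intro last h
    simp only [levelCheck, frc_eq, Bool.and_eq_true, List.all_eq_true, List.contains_iff_mem,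
      Nat.beq_eq, runK_eq, Nat.ble_eq] at h
    obtain ⟨⟨hl, hp⟩, hv, hrest⟩ := h
    obtain ⟨g, h1, h2, h3⟩ := ih hrest
    refine ⟨Fin.cons (evw gen (unpack c)) g, fun j => ?_, fun j => ?_, ?_⟩
    · refine Fin.cases ?_ (fun j => ?_) j
      · rw [Fin.cons_zero, mem_fixList]
        exact ⟨evw_mem fun l hl' => Subgroup.subset_closure ⟨l, hl l hl', rfl⟩,
          fun p hpp => Fin.ext (by rw [R.evw_apply]; exact hp p hpp)⟩
      · simpa using h1 j
    · refine Fin.cases ?_ (fun j => ?_) j
      · rw [Fin.cons_zero, R.evw_apply]; exact hv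
      · rw [Fin.cons_succ]; have := h2 j; omega
    · intro i j hij
      induction i using Fin.cases with
      | zero =>
        induction j using Fin.cases with
        | zero => rfl
        | succ j =>
          exfalso
          simp only [Fin.cons_zero, Fin.cons_succ] at hij
          have := h2 j
          rw [← hij, R.evw_apply] at this
          simp only at this
          omega
      | succ i =>
        induction j using Fin.cases with
        | zero =>
          exfalso
          simp only [Fin.cons_zero, Fin.cons_succ] at hij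
          have := h2 i
          rw [hij, R.evw_apply] at this
          simp only at this
          omega
        | succ j =>
          simp only [Fin.cons_succ] at hij
          rw [h3 hij]

theorem chain_le (R : Rep gen n T) [Finite N] {letters : List ℕ} :
    ∀ {ls : List (ℕ × List ℕ)} {pre : List ℕ}, (∀ p ∈ ls, p.1 < n) →
      chainCheck T letters pre ls = true →
      chainOrd ls * Nat.card (fixList R (Subgroup.closure (gen '' {l | l ∈ letters})) (pre ++ ls.map Prod.fst)) ≤
        Nat.card (fixList R (Subgroup.closure (gen '' {l | l ∈ letters})) pre) := by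
  intro ls
  induction ls with
  | nil => intro pre _ _; simp [chainOrd]
  | cons p ls ih =>
    intro pre hb h
    obtain ⟨b, cs⟩ := p
    simp only [chainCheck, Bool.and_eq_true] at h
    have hbn : b < n := hb _ List.mem_cons_self
    obtain ⟨g, h1, -, h3⟩ := levelCheck_spec R hbn h.1
    have h4 := ih (fun p hp => hb p (List.mem_cons_of_mem _ hp)) h.2
    set K := Subgroup.closure (gen '' {l | l ∈ letters})
    have hle : fixList R K (pre ++ [b]) ≤ fixList R K pre := by
      intro x hx
      rw [mem_fixList] at hx ⊢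
      exact ⟨hx.1, fun p hp => hx.2 p (List.mem_append_left _ hp)⟩
    have hinj : Function.Injective (fun p : Fin cs.length × fixList R K (pre ++ [b]) =>
        (⟨g p.1 * p.2.1, (fixList R K pre).mul_mem (h1 p.1) (hle p.2.2)⟩ : fixList R K pre)) := by
      intro p q hpq
      have he : g p.1 * p.2.1 = g q.1 * q.2.1 := congrArg Subtype.val hpq
      have hfix : ∀ r : fixList R K (pre ++ [b]), R.φ r.1 ⟨b, hbn⟩ = ⟨b, hbn⟩ := fun r =>
        (mem_fixList.mp r.2).2 _ (by simp)
      have hij : p.1 = q.1 := h3 (by
        have := congrArg (fun x => R.φ x ⟨b, hbn⟩) he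
        simpa [map_mul, hfix] using this)
      rw [hij] at he
      exact Prod.ext hij (Subtype.ext (mul_left_cancel he))
    have h5 := Nat.card_le_card_of_injective _ hinj
    rw [Nat.card_prod, Nat.card_fin] at h5
    calc chainOrd ((b, cs) :: ls) * Nat.card (fixList R K (pre ++ ((b, cs) :: ls).map Prod.fst))
        = cs.length * (chainOrd ls * Nat.card (fixList R K ((pre ++ [b]) ++ ls.map Prod.fst))) := by
          rw [chainOrd, mul_assoc, List.map_cons, List.append_assoc, List.singleton_append]
      _ ≤ cs.length * Nat.card (fixList R K (pre ++ [b])) := Nat.mul_le_mul_left _ h4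
      _ ≤ _ := h5

/-- the bound is met: a transitive action, stabiliser generated by the letters, and a base -/
theorem exact_of_bound (R : Rep gen n T) [Finite N] (hn : 0 < n) {letters : List ℕ}
    {tr : List ℕ} {all : List ℕ} {ls : List (ℕ × List ℕ)} {M : ℕ}
    (htr : levelCheck T all [] 0 tr 0 = true) (htrn : tr.length = n)
    (hfix : letters.all (fun l => Nat.beq (T l 0) 0) = true) (hb : ∀ p ∈ ls, p.1 < n)
    (hch : chainCheck T letters [] ls = true) (hle : Nat.card N ≤ M)
    (hM : n * chainOrd ls = M) :
    Nat.card N = M ∧ Subgroup.closure (gen '' {l | l ∈ letters}) = R.fixPt ⟨0, hn⟩ ∧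
      R.IsBase (0 :: ls.map Prod.fst) ∧ Nat.card (R.fixPt ⟨0, hn⟩) = chainOrd ls := by
  set K := Subgroup.closure (gen '' {l | l ∈ letters})
  have hKle : K ≤ R.fixPt ⟨0, hn⟩ := by
    rw [Subgroup.closure_le]
    rintro _ ⟨l, hl, rfl⟩
    have := List.all_eq_true.mp hfix l hl
    rw [Nat.beq_eq] at this
    exact Fin.ext (by rw [R.spec]; exact this)
  obtain ⟨g, -, -, h3⟩ := levelCheck_spec R hn htr
  have hinj : Function.Injective (fun p : Fin tr.length × R.fixPt ⟨0, hn⟩ => g p.1 * p.2.1) := by
    intro p q hpq
    have hfixp : ∀ r : R.fixPt ⟨0, hn⟩, R.φ r.1 ⟨0, hn⟩ = ⟨0, hn⟩ := fun r => r.2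
    have he : g p.1 * p.2.1 = g q.1 * q.2.1 := hpq
    have hij : p.1 = q.1 := h3 (by
      have := congrArg (fun x => R.φ x ⟨0, hn⟩) he
      simpa [map_mul, hfixp] using this)
    rw [hij] at he
    exact Prod.ext hij (Subtype.ext (mul_left_cancel he))
  have h5 := Nat.card_le_card_of_injective _ hinj
  rw [Nat.card_prod, Nat.card_fin, htrn] at h5
  have h6 := chain_le R hb hch
  rw [List.nil_append] at h6
  change chainOrd ls * Nat.card (fixList R K (ls.map Prod.fst)) ≤ Nat.card (fixList R K []) at h6
  have hKnil : fixList R K [] = K := le_antisymm (fun x hx => (mem_fixList.mp hx).1)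
    (fun x hx => mem_fixList.mpr ⟨hx, by simp⟩)
  rw [hKnil] at h6
  have hpos : 0 < Nat.card (fixList R K (ls.map Prod.fst)) := Nat.card_pos
  have h7 : Nat.card K ≤ Nat.card (R.fixPt ⟨0, hn⟩) := Subgroup.card_le_of_le hKle
  have h8 : chainOrd ls ≤ chainOrd ls * Nat.card (fixList R K (ls.map Prod.fst)) :=
    Nat.le_mul_of_pos_right _ hpos
  have h9 : Nat.card (R.fixPt ⟨0, hn⟩) ≤ chainOrd ls := Nat.le_of_mul_le_mul_left (by omega) hn
  have hH : Nat.card (R.fixPt ⟨0, hn⟩) = chainOrd ls := by omega
  have hKeq : K = R.fixPt ⟨0, hn⟩ := Subgroup.eq_of_le_of_card_ge hKle (by omega)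
  refine ⟨le_antisymm hle (by rw [← hM, ← hH]; exact h5), hKeq,
    ⟨fun b hb' => ?_, fun x hx => ?_⟩, hH⟩
  · rcases List.mem_cons.mp hb' with rfl | hb'
    · exact hn
    · obtain ⟨p, hp, rfl⟩ := List.mem_map.mp hb'; exact hb p hp
  · have hpos' : 0 < chainOrd ls := hH ▸ Nat.card_pos
    have hone : Nat.card (fixList R K (ls.map Prod.fst)) = 1 := by
      have : chainOrd ls * Nat.card (fixList R K (ls.map Prod.fst)) ≤ chainOrd ls * 1 := by
        rw [mul_one]; omega
      have := Nat.le_of_mul_le_mul_left this hpos'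
      omega
    have hxK : x ∈ fixList R K (ls.map Prod.fst) := mem_fixList.mpr
      ⟨hKeq ▸ hx ⟨0, hn⟩ (by simp), fun p hp => hx p (List.mem_cons_of_mem _ hp)⟩
    rw [(Subgroup.card_eq_one).mp hone, Subgroup.mem_bot] at hxK
    exact hxK

end HN
end H77
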