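import Mathlib
import Cfsg.Prelude.Def_Spor_HN

/-!
The relations on x, y, z in the presentation of the Harada–Norton group, in group terms.
-/

set_option autoImplicit false

namespace H77
namespace HN

variable {Γ : Type*} [Group Γ]

/-- the relations of the presentation that do not involve the fourth generator -/
structure XYZRel (x y z : Γ) : Prop where
  y_six : y ^ 6 = 1
  x2_y : (x ^ 2) * y * (x ^ 2) * (y⁻¹) = 1
  comm_three : (x⁻¹ * y⁻¹ * x * y) ^ 3 = 1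
  mixed_three : ((x⁻¹) * (y ^ 2) * x * (y ^ 3)) ^ 3 = 1
  xy_eight : (x * y) ^ 8 = 1
  xyxy3_four : (x * y * x * (y ^ 3)) ^ 4 = 1
  z_two : z ^ 2 = 1
  zx_two : (z * x) ^ 2 = 1
  z_comm : (z⁻¹ * (y * x * y * x * (y ^ 2) * x * (y⁻¹))⁻¹ * z *
      (y * x * y * x * (y ^ 2) * x * (y⁻¹))) * ((x ^ 2)⁻¹) = 1
  z_conj : z * (((((y ^ 3) * x * y * x * y)⁻¹ * z * ((y ^ 3) * x * y * x * y)) * x) ^ 3) = 1

abbrev pres : FreeGroup Cfsg.Spor.HN.Gen →* Cfsg.Spor.HN :=
  PresentedGroup.mk (Cfsg.Spor.coxRelators Cfsg.Spor.HN.edges ∪ {r | r ∈ Cfsg.Spor.HN.extra})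

theorem pres_rel {r : FreeGroup Cfsg.Spor.HN.Gen} (h : r ∈ Cfsg.Spor.HN.extra) : pres r = 1 :=
  PresentedGroup.one_of_mem (Or.inr h)

/-- the relations hold in the presented group -/
theorem xyzRel : XYZRel (pres Cfsg.Spor.HN.x) (pres Cfsg.Spor.HN.y) (pres Cfsg.Spor.HN.z) := by
  constructor <;>
    (simp only [← map_inv, ← map_mul, ← map_pow]; apply pres_rel; simp [Cfsg.Spor.HN.extra])

end HN
end H77
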