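import Mathlib
import Cfsg.Agent.H77.HN.Words

/-!
The data of a double coset certificate and its checks.

The group `N` acts on `1408` points, `H` is the stabiliser of the point `0`, the further
generator `t` commutes with `H`. There are `r` orbits of `N` on the cosets in question, with
stabilisers generated by listed letters, and one edge for each orbit of `H` on them.
-/

set_option autoImplicit false

namespace H77
namespace HN

/-- the data -/
structure Cert where
  /-- images of the points under the letters -/
  T : ℕ → ℕ → ℕ
  iv : ℕ → ℕ
  /-- points that determine an element -/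
  B : List ℕ
  /-- number of points -/
  np : ℕ
  /-- number of orbits of the group N -/
  r : ℕ
  /-- number of edges -/
  ne : ℕ
  /-- letters generating the stabiliser of an orbit -/
  sg : ℕ → List ℕ
  /-- orbit number + 2^8 * letter + 2^17 * parent, for the stabiliser on the points -/
  tree : ℕ → ℕ → ℕ
  /-- depth of a point in its tree -/
  dep : ℕ → ℕ → ℕ
  src : ℕ → ℕ
  dst : ℕ → ℕ
  nw : ℕ → List ℕ
  mw : ℕ → List ℕ
  /-- a single letter for `nw ++ inv mw` -/
  cl : ℕ → ℕ

/-- one step of a path: a letter, or the further generator with a witness -/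
inductive Step where
  | lett (l : ℕ)
  | fwd (k : ℕ) (h s : List ℕ)
  | bwd (k : ℕ) (h s : List ℕ)

namespace Step

def letter : Step → ℕ
  | .lett l => l
  | .fwd _ _ _ => 5
  | .bwd _ _ _ => 6

end Step

/-- the word of a path -/
def pathWord (st : List Step) : List ℕ := st.map Step.letter

/-- the inverses of the first seven letters -/
def invP : ℕ → ℕ
  | 1 => 2
  | 2 => 1
  | 3 => 4
  | 4 => 3
  | 5 => 6
  | 6 => 5
  | l => l

namespace Cert

variable (D : Cert)

def orbId (i c : ℕ) : ℕ := D.tree i c % 256
def orbLet (i c : ℕ) : ℕ := D.tree i c / 256 % 512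
def orbPar (i c : ℕ) : ℕ := D.tree i c / 131072

/-- the first point of an orbit -/
def root (k : ℕ) : ℕ := run D.T (invw D.iv (D.nw k)) 0

def treeWordAux (i : ℕ) : ℕ → ℕ → List ℕ
  | 0, _ => []
  | f + 1, c => treeWordAux i f (D.orbPar i c) ++ [D.orbLet i c]

/-- the word leading from the root to a point -/
def treeWord (i c : ℕ) : List ℕ := treeWordAux D i (D.dep i c) c

/-- one entry of a tree -/
def treeEntry (i c : ℕ) : Bool :=
  decide (D.orbId i c < D.ne ∧ D.src (D.orbId i c) = i) &&
  (if D.dep i c = 0 then decide (D.root (D.orbId i c) = c)
    else decide (D.orbLet i c ∈ D.sg i ∧ D.orbPar i c < D.np ∧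
      D.T (D.orbLet i c) (D.orbPar i c) = c ∧ D.orbId i (D.orbPar i c) = D.orbId i c ∧
      D.dep i (D.orbPar i c) + 1 = D.dep i c)) &&
  (D.sg i).all (fun l => decide (D.orbId i (D.T l c) = D.orbId i c))

/-- all checks on one tree -/
def treeOK (i lo len : ℕ) : Bool :=
  (List.range len).all fun j => D.treeEntry i (lo + j)

/-- the conjugated Schreier element at a point and a letter lies in the next stabiliser -/
noncomputable def schreierOne (i c l : ℕ) (s : List ℕ) : Bool :=
  let k := D.orbId i c
  (s.all fun e => (D.sg (D.dst k)).contains e) &&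
    agree D.T D.B s
      (D.iv (D.cl k) :: (D.treeWord i c ++ l :: (invw D.iv (D.treeWord i (D.T l c)) ++ [D.cl k])))

/-- one witness for each point and letter, packed -/
noncomputable def schreierOK (i : ℕ) : ℕ → List (List ℕ) → Bool
  | _, [] => true
  | c, ws :: rest =>
    decide (ws.length = (D.sg i).length) &&
      ((D.sg i).zip ws).all (fun p => D.schreierOne i c p.1 (unpack p.2)) &&
      schreierOK i (c + 1) rest

/-- a witness for the equation `w = s ++ u ++ h` with `h` fixing the point 0 -/
noncomputable def splitOK (allowed : List ℕ) (w u h s : List ℕ) : Bool :=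
  decide (run D.T h 0 = 0) && s.all (fun e => allowed.contains e) && agree D.T D.B (s ++ u ++ h) w

/-- the end of a path -/
noncomputable def walk (known : ℕ → List ℕ) (edge : ℕ → Bool) :
    List Step → ℕ → List ℕ → Option (ℕ × List ℕ)
  | [], i, w => some (i, w)
  | .lett l :: st, i, w => if l < 5 then walk known edge st i (w ++ [l]) else none
  | .fwd k h s :: st, i, w =>
    bif decide (k < D.ne ∧ D.src k = i) && edge k && D.splitOK (known i) w (D.nw k) h s then
      walk known edge st (D.dst k) (D.mw k ++ h) else none
  | .bwd k h s :: st, i, w =>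
    bif decide (k < D.ne ∧ D.dst k = i) && edge k && D.splitOK (known i) w (D.mw k) h s then
      walk known edge st (D.src k) (D.nw k ++ h) else none

/-- a closed path on the cosets of the stabilisers -/
noncomputable def loopOK (i : ℕ) (w : List ℕ) (st : List Step) (rel : List ℕ) (s : List ℕ) : Bool :=
  decide (pathWord st = rel) &&
    match D.walk D.sg (fun _ => true) st i w with
    | none => false
    | some (j, v) => decide (j = i) && s.all (fun e => (D.sg i).contains e) && agree D.T D.B (s ++ w) v

end Cert

/-- one step of the deduction of all facts -/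
inductive Ded where
  | stab (i e : ℕ) (w : List ℕ) (st : List Step)
  | edge (k : ℕ) (i : ℕ) (w : List ℕ) (f b : List Step) (h s h' s' : List ℕ)

/-- what is known: letters fixing a base coset, and edges -/
structure Known where
  stabs : List (ℕ × ℕ)
  edges : List ℕ
deriving DecidableEq

namespace Known

def fix (K : Known) (i : ℕ) : List ℕ := (K.stabs.filter (fun p => p.1 == i)).map Prod.snd

end Known

/-- relators in the letters, with the trivial ones -/
def dedRels : List (List ℕ) := [[5, 6], [6, 5]] ++
  ([[5, 5, 5, 5, 5], [2, 5, 1, 5, 5], [2, 6, 1, 6, 6], [2, 2, 5, 1, 1, 5], [1, 1, 5, 2, 2, 5],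
    [2, 2, 6, 1, 1, 6], [1, 1, 6, 2, 2, 6], [6, 6, 6, 6, 6],
    [0, 5, 0, 5, 0, 5], [0, 6, 0, 6, 0, 6]].flatMap fun w => (List.range w.length).map fun j => w.rotate j)

namespace Cert

variable (D : Cert)

/-- check one deduction -/
noncomputable def dedOne (K : Known) : Ded → Option Known
  | .stab i e w st =>
    bif dedRels.contains (pathWord st) &&
        (match D.walk K.fix (fun k => K.edges.contains k) st i w with
        | none => false
        | some (j, v) => decide (j = i) && agree D.T D.B [e] (v ++ invw D.iv w)) then
      some ⟨(i, e) :: K.stabs, K.edges⟩ else none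
  | .edge k i w f b h s h' s' =>
    bif decide (k < D.ne) && dedRels.contains (pathWord f ++ 5 :: invw invP (pathWord b)) &&
        (match D.walk K.fix (fun k => K.edges.contains k) f i w,
          D.walk K.fix (fun k => K.edges.contains k) b i w with
        | some (j1, v1), some (j2, v2) => decide (j1 = D.src k ∧ j2 = D.dst k ∧ h = h') &&
            D.splitOK (K.fix j1) v1 (D.nw k) h s && D.splitOK (K.fix j2) v2 (D.mw k) h' s'
        | _, _ => false) then
      some ⟨K.stabs, k :: K.edges⟩ else none

/-- check a list of deductions -/
noncomputable def dedAll : Known → List Ded → Option Known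
  | K, [] => some K
  | K, d :: ds => match D.dedOne K d with
    | none => none
    | some K' => dedAll K' ds

end Cert

end HN
end H77
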