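import Mathlib
import Cfsg.Agent.H77.HN.Cert

/-!
Soundness of checked paths, for any way of letting the letters move abstract points.
-/

set_option autoImplicit false

namespace H77
namespace HN

/-- apply the letters of a word one after the other -/
def runF {X : Type*} (F : ℕ → X → X) : List ℕ → X → X
  | [], x => x
  | l :: w, x => runF F w (F l x)

theorem runF_append {X : Type*} (F : ℕ → X → X) (u v : List ℕ) (x : X) :
    runF F (u ++ v) x = runF F v (runF F u x) := by
  induction u generalizing x with
  | nil => rfl
  | cons l u ih => exact ih _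

theorem runF_perm {X : Type*} (gen : ℕ → Equiv.Perm X) (w : List ℕ) (x : X) :
    runF (fun l => gen l) w x = evw gen w x := by
  induction w generalizing x with
  | nil => rfl
  | cons l w ih => simp [runF, ih]

namespace Cert

variable {D : Cert}

theorem walk_sound {X : Type*} (F : ℕ → X → X) (Pt : ℕ → List ℕ → X) (known : ℕ → List ℕ)
    (edge : ℕ → Bool)
    (hl : ∀ i w l, l < 5 → F l (Pt i w) = Pt i (w ++ [l]))
    (hf : ∀ k w h s, k < D.ne → edge k = true → D.splitOK (known (D.src k)) w (D.nw k) h s = true →
      F 5 (Pt (D.src k) w) = Pt (D.dst k) (D.mw k ++ h))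
    (st : List Step)
    (hb : 6 ∈ pathWord st → ∀ k w h s, k < D.ne → edge k = true →
      D.splitOK (known (D.dst k)) w (D.mw k) h s = true →
      F 6 (Pt (D.dst k) w) = Pt (D.src k) (D.nw k ++ h)) :
    ∀ {i : ℕ} {w : List ℕ} {j : ℕ} {v : List ℕ}, D.walk known edge st i w = some (j, v) →
      runF F (pathWord st) (Pt i w) = Pt j v := by
  induction st with
  | nil =>
    intro i w j v h
    simp only [walk, Option.some.injEq, Prod.mk.injEq] at h
    obtain ⟨rfl, rfl⟩ := h
    rfl
  | cons a st ih =>
    intro i w j v h
    have hb' : 6 ∈ pathWord st → _ := fun hh => hb (by simp only [pathWord, List.map_cons] at hh ⊢; exact List.mem_cons_of_mem _ hh)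
    cases a with
    | lett l =>
      simp only [walk] at h
      split at h
      · rename_i hl5
        show runF F (pathWord st) (F l (Pt i w)) = _
        rw [hl i w l hl5]
        exact ih hb' h
      · exact absurd h (by simp)
    | fwd k hh s =>
      simp only [walk] at h
      rcases hc : (decide (k < D.ne ∧ D.src k = i) && edge k && D.splitOK (known i) w (D.nw k) hh s)
        with _ | _
      · rw [hc] at h; exact absurd h (by simp)
      rw [hc] at h
      simp only [Bool.and_eq_true, decide_eq_true_eq] at hc
      obtain ⟨⟨⟨hk, rfl⟩, he⟩, hs⟩ := hc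
      show runF F (pathWord st) (F 5 (Pt (D.src k) w)) = _
      rw [hf k w hh s hk he hs]
      exact ih hb' h
    | bwd k hh s =>
      simp only [walk] at h
      rcases hc : (decide (k < D.ne ∧ D.dst k = i) && edge k && D.splitOK (known i) w (D.mw k) hh s)
        with _ | _
      · rw [hc] at h; exact absurd h (by simp)
      rw [hc] at h
      simp only [Bool.and_eq_true, decide_eq_true_eq] at hc
      obtain ⟨⟨⟨hk, rfl⟩, he⟩, hs⟩ := hc
      show runF F (pathWord st) (F 6 (Pt (D.dst k) w)) = _
      rw [hb (by simp [pathWord, Step.letter]) k w hh s hk he hs]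
      exact ih hb' h

end Cert

end HN
end H77
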