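import Mathlib
import Cfsg.Agent.H77.HN.Walk

/-!
The action on the disjoint union of the orbits described by a certificate.
-/

set_option autoImplicit false

namespace H77
namespace HN

open scoped Classical

/-- the standing hypotheses on a certificate -/
structure Setting (N : Type*) [Group N] where
  D : Cert
  gen : ℕ → N
  R : Rep gen D.np D.T
  hiv : ∀ l, gen (D.iv l) = (gen l)⁻¹
  hB : R.IsBase D.B
  hnp : 0 < D.np
  ends : ∀ k < D.ne, D.src k < D.r ∧ D.dst k < D.r
  tree : ∀ i < D.r, ∀ c < D.np, D.treeEntry i c = true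
  roots : ∀ k < D.ne, D.orbId (D.src k) (D.root k) = k ∧ D.dep (D.src k) (D.root k) = 0
  conj : ∀ k < D.ne, agree D.T D.B [D.cl k] (D.nw k ++ invw D.iv (D.mw k)) = true
  schreier : ∀ i < D.r, ∀ c < D.np, ∀ l ∈ D.sg i, ∃ s, D.schreierOne i c l s = true

namespace Setting

variable {N : Type*} [Group N] (E : Setting N)

/-- the value of a word -/
abbrev e (w : List ℕ) : N := evw E.gen w

/-- the stabiliser belonging to an orbit -/
def stab (i : ℕ) : Subgroup N := Subgroup.closure (E.gen '' {l | l ∈ E.D.sg i})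

theorem e_mem_stab {i : ℕ} {w : List ℕ} (h : ∀ l ∈ w, l ∈ E.D.sg i) : E.e w ∈ E.stab i :=
  evw_mem fun l hl => Subgroup.subset_closure ⟨l, h l hl, rfl⟩

theorem e_invw (w : List ℕ) : E.e (invw E.D.iv w) = (E.e w)⁻¹ := evw_invw E.hiv w

/-- the stabiliser of the first point -/
def Hsub : Subgroup N := E.R.fixPt ⟨0, E.hnp⟩

theorem e_mem_Hsub {w : List ℕ} : E.e w ∈ E.Hsub ↔ run E.D.T w 0 = 0 := by
  rw [Hsub, Rep.mem_fixPt, Fin.ext_iff, E.R.evw_apply]

theorem eq_of_agree {u v : List ℕ} (h : agree E.D.T E.D.B u v = true) : E.e u = E.e v :=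
  E.R.evw_eq_of_agree E.hB h

/-- the moving of a point by an element -/
def mv (g : N) (p : Fin E.D.np) : Fin E.D.np := E.R.φ g p

theorem mv_mul (g h : N) (p : Fin E.D.np) : E.mv (g * h) p = E.mv g (E.mv h p) := by simp [mv]

@[simp] theorem mv_one (p : Fin E.D.np) : E.mv 1 p = p := by simp [mv]

theorem mv_inv_mv (g : N) (p : Fin E.D.np) : E.mv g⁻¹ (E.mv g p) = p := by
  rw [← E.mv_mul, inv_mul_cancel, E.mv_one]

theorem mv_mv_inv (g : N) (p : Fin E.D.np) : E.mv g (E.mv g⁻¹ p) = p := by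
  rw [← E.mv_mul, mul_inv_cancel, E.mv_one]

/-- the root of an orbit as a point -/
def rootPt (k : ℕ) : Fin E.D.np := E.mv (E.e (E.D.nw k))⁻¹ ⟨0, E.hnp⟩

theorem rootPt_val (k : ℕ) : (E.rootPt k : ℕ) = E.D.root k := by
  rw [rootPt, mv, ← E.e_invw, E.R.evw_apply, Cert.root]

theorem orbId_lt {i : ℕ} (hi : i < E.D.r) (c : Fin E.D.np) :
    E.D.orbId i c < E.D.ne ∧ E.D.src (E.D.orbId i c) = i := by
  have h := E.tree i hi c c.2
  simp only [Cert.treeEntry, Bool.and_eq_true, decide_eq_true_eq] at h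
  exact h.1.1

theorem treeWord_spec {i : ℕ} (hi : i < E.D.r) : ∀ (d : ℕ) (c : Fin E.D.np), E.D.dep i c = d →
    (∀ l ∈ E.D.treeWord i c, l ∈ E.D.sg i) ∧
      E.mv (E.e (E.D.treeWord i c)) (E.rootPt (E.D.orbId i c)) = c := by
  intro d
  induction d with
  | zero =>
    intro c hd
    have h := E.tree i hi c c.2
    simp only [Cert.treeEntry, Bool.and_eq_true, hd, if_true, decide_eq_true_eq] at h
    simp only [Cert.treeWord, hd, Cert.treeWordAux, List.not_mem_nil, IsEmpty.forall_iff,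
      implies_true, true_and, Setting.e, evw_nil, mv_one]
    exact Fin.ext (by rw [E.rootPt_val, h.1.2])
  | succ d ih =>
    intro c hd
    have h := E.tree i hi c c.2
    simp only [Cert.treeEntry, Bool.and_eq_true, hd, Nat.succ_ne_zero, if_false,
      decide_eq_true_eq] at h
    obtain ⟨⟨-, hl, hp, hT, hid, hdp⟩, -⟩ := h
    obtain ⟨h1, h2⟩ := ih ⟨E.D.orbPar i c, hp⟩ (by simpa using hdp)
    have hw : E.D.treeWord i c = E.D.treeWord i (E.D.orbPar i c) ++ [E.D.orbLet i c] := by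
      have hd' : E.D.dep i (E.D.orbPar i c) = d := by simpa using hdp
      simp only [Cert.treeWord, hd, hd', Cert.treeWordAux]
    refine ⟨?_, ?_⟩
    · intro l hmem
      rw [hw, List.mem_append, List.mem_singleton] at hmem
      rcases hmem with hmem | rfl
      · exact h1 l hmem
      · exact hl
    · have h2' : E.mv (E.e (E.D.treeWord i (E.D.orbPar i c))) (E.rootPt (E.D.orbId i c)) =
          ⟨E.D.orbPar i c, hp⟩ := by rw [← hid]; exact h2
      rw [hw, Setting.e, evw_append, evw_singleton, E.mv_mul, h2']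
      exact Fin.ext (by rw [mv, E.R.spec]; exact hT)

/-- the tree word of a point, as an element -/
def tr (i : ℕ) (c : Fin E.D.np) : N := E.e (E.D.treeWord i c)

theorem tr_mem {i : ℕ} (hi : i < E.D.r) (c : Fin E.D.np) : E.tr i c ∈ E.stab i :=
  E.e_mem_stab (E.treeWord_spec hi _ c rfl).1

theorem tr_root {i : ℕ} (hi : i < E.D.r) (c : Fin E.D.np) :
    E.mv (E.tr i c) (E.rootPt (E.D.orbId i c)) = c := (E.treeWord_spec hi _ c rfl).2

theorem orbId_mv {i : ℕ} (hi : i < E.D.r) {g : N} (hg : g ∈ E.stab i) :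
    ∀ c : Fin E.D.np, E.D.orbId i (E.mv g c) = E.D.orbId i c := by
  induction hg using Subgroup.closure_induction with
  | mem x hx =>
    obtain ⟨l, hl, rfl⟩ := hx
    intro c
    have h := E.tree i hi c c.2
    simp only [Cert.treeEntry, Bool.and_eq_true, List.all_eq_true, decide_eq_true_eq] at h
    rw [mv, E.R.spec]; exact h.2 l hl
  | one => intro c; rw [E.mv_one]
  | mul x y _ _ hx hy => intro c; rw [E.mv_mul, hx, hy]
  | inv x _ hx => intro c; conv_rhs => rw [← E.mv_mv_inv x c, hx]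

/-- the element carrying a stabiliser to the next -/
def cc (k : ℕ) : N := (E.e (E.D.mw k))⁻¹ * E.e (E.D.nw k)

theorem gen_cl {k : ℕ} (hk : k < E.D.ne) : E.gen (E.D.cl k) = E.cc k := by
  have h := E.eq_of_agree (E.conj k hk)
  rw [Setting.e, evw_singleton, Setting.e, evw_append] at h
  rw [h, cc, Setting.e, evw_invw E.hiv]

/-- Schreier's lemma on one orbit -/
theorem schreier_mem {i : ℕ} (hi : i < E.D.r) {g : N} (hg : g ∈ E.stab i) :
    ∀ c : Fin E.D.np, E.cc (E.D.orbId i c) * ((E.tr i (E.mv g c))⁻¹ * g * E.tr i c) *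
      (E.cc (E.D.orbId i c))⁻¹ ∈ E.stab (E.D.dst (E.D.orbId i c)) := by
  induction hg using Subgroup.closure_induction with
  | mem x hx =>
    obtain ⟨l, hl, rfl⟩ := hx
    intro c
    obtain ⟨s, hs⟩ := E.schreier i hi c c.2 l hl
    simp only [Cert.schreierOne, Bool.and_eq_true, List.all_eq_true, List.contains_iff_mem] at hs
    have h := E.eq_of_agree hs.2
    have hm := E.e_mem_stab hs.1
    rw [h] at hm
    have hk := (E.orbId_lt hi c).1
    have hT : ((E.mv (E.gen l) c : Fin E.D.np) : ℕ) = E.D.T l c := by rw [mv, E.R.spec]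
    simp only [Setting.e, evw_cons, evw_append, evw_invw E.hiv, evw_singleton, evw_nil, one_mul,
      E.hiv (E.D.cl _), E.gen_cl hk] at hm
    simp only [tr, Setting.e, hT]
    simpa [mul_assoc] using hm
  | one => intro c; simp
  | mul x y hx' hy' hx hy =>
    intro c
    have h1 := hx (E.mv y c)
    have h2 := hy c
    rw [E.orbId_mv hi hy' c] at h1
    rw [E.mv_mul]
    have h3 := (E.stab _).mul_mem h1 h2
    convert h3 using 1
    group
  | inv x hx' hx =>
    intro c
    have h1 := (E.stab _).inv_mem (hx (E.mv x⁻¹ c))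
    rw [E.orbId_mv hi ((E.stab i).inv_mem hx') c, E.mv_mv_inv] at h1
    convert h1 using 1
    group

theorem conj_mem {k : ℕ} (hk : k < E.D.ne) {g : N} (hg : g ∈ E.stab (E.D.src k))
    (hfix : E.mv g (E.rootPt k) = E.rootPt k) :
    E.cc k * g * (E.cc k)⁻¹ ∈ E.stab (E.D.dst k) := by
  obtain ⟨hid, hdep⟩ := E.roots k hk
  rw [← E.rootPt_val] at hid hdep
  have h := E.schreier_mem (E.ends k hk).1 hg (E.rootPt k)
  rw [hid, hfix] at h
  have ht : E.tr (E.D.src k) (E.rootPt k) = 1 := by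
    simp [tr, Cert.treeWord, hdep, Cert.treeWordAux]
  simpa [ht] using h

/-- the points: a coset of one of the stabilisers -/
abbrev Pts : Type _ := Σ i : Fin E.D.r, N ⧸ E.stab i

/-- a point from an orbit number and an element -/
def pt (i : ℕ) (hi : i < E.D.r) (g : N) : E.Pts := ⟨⟨i, hi⟩, QuotientGroup.mk g⟩

theorem pt_congr {i j : ℕ} (h : i = j) (hi : i < E.D.r) (hj : j < E.D.r) {g g' : N}
    (hg : g⁻¹ * g' ∈ E.stab i) : E.pt i hi g = E.pt j hj g' := by
  subst h
  simp only [pt, Sigma.mk.injEq, heq_eq_eq, true_and]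
  exact QuotientGroup.eq.mpr hg

/-- left translation -/
def act (g : N) (x : E.Pts) : E.Pts := ⟨x.1, g • x.2⟩

theorem act_pt (g : N) {i : ℕ} (hi : i < E.D.r) (a : N) : E.act g (E.pt i hi a) = E.pt i hi (g * a) :=
  rfl

theorem act_mul (g h : N) (x : E.Pts) : E.act (g * h) x = E.act g (E.act h x) :=
  Sigma.ext rfl (heq_of_eq (mul_smul g h x.2))

theorem act_one (x : E.Pts) : E.act 1 x = x := by simp [act]

/-- every point is in the orbit of the stabiliser of 0 on the start of an edge -/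
theorem exists_form (x : E.Pts) :
    ∃ (k : ℕ) (hk : k < E.D.ne) (h : N), h ∈ E.Hsub ∧
      x = E.pt (E.D.src k) (E.ends k hk).1 (h * E.e (E.D.nw k)) := by
  obtain ⟨⟨i, hi⟩, q⟩ := x
  obtain ⟨g, rfl⟩ := QuotientGroup.mk_surjective q
  let c : Fin E.D.np := E.mv g⁻¹ ⟨0, E.hnp⟩
  obtain ⟨hk, hsrc⟩ := E.orbId_lt hi c
  refine ⟨E.D.orbId i c, hk, g * E.tr i c * (E.e (E.D.nw (E.D.orbId i c)))⁻¹, ?_, ?_⟩
  · rw [Hsub, Rep.mem_fixPt]
    show E.mv _ _ = _
    rw [E.mv_mul, E.mv_mul]
    show E.mv g (E.mv (E.tr i c) (E.rootPt _)) = _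
    rw [E.tr_root hi]
    exact E.mv_mv_inv g _
  · rw [inv_mul_cancel_right]
    refine E.pt_congr hsrc.symm hi _ ?_
    rw [inv_mul_cancel_left]
    exact E.tr_mem hi c

theorem form_unique {k k' : ℕ} (hk : k < E.D.ne) (hk' : k' < E.D.ne) {h h' : N}
    (hh : h ∈ E.Hsub) (hh' : h' ∈ E.Hsub)
    (he : E.pt (E.D.src k) (E.ends k hk).1 (h * E.e (E.D.nw k)) =
      E.pt (E.D.src k') (E.ends k' hk').1 (h' * E.e (E.D.nw k'))) :
    k = k' ∧ E.pt (E.D.dst k) (E.ends k hk).2 (h * E.e (E.D.mw k)) =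
      E.pt (E.D.dst k') (E.ends k' hk').2 (h' * E.e (E.D.mw k')) := by
  have hi : E.D.src k = E.D.src k' := by
    have := congrArg (fun p : E.Pts => (p.1 : ℕ)) he
    simpa [pt] using this
  have hu : (h * E.e (E.D.nw k))⁻¹ * (h' * E.e (E.D.nw k')) ∈ E.stab (E.D.src k) := by
    have h2 := he
    revert h2
    unfold pt
    generalize hh1 : h * E.e (E.D.nw k) = a
    generalize hh2 : h' * E.e (E.D.nw k') = b
    generalize (E.ends k hk).1 = p1
    generalize (E.ends k' hk').1 = p2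
    revert p1 p2
    rw [← hi]
    intro p1 p2 h2
    simp only [Sigma.mk.injEq, heq_eq_eq, true_and] at h2
    exact QuotientGroup.eq.mp h2
  set u := (h * E.e (E.D.nw k))⁻¹ * (h' * E.e (E.D.nw k')) with hudef
  have hz : E.mv h ⟨0, E.hnp⟩ = ⟨0, E.hnp⟩ := hh
  have hz' : E.mv h' ⟨0, E.hnp⟩ = ⟨0, E.hnp⟩ := hh'
  have hzi : E.mv h⁻¹ ⟨0, E.hnp⟩ = ⟨0, E.hnp⟩ := E.Hsub.inv_mem hh
  have hroot : E.mv u (E.rootPt k') = E.rootPt k := by
    rw [hudef, mul_inv_rev, E.mv_mul, E.mv_mul, E.mv_mul, rootPt, rootPt, E.mv_mv_inv, hz', hzi]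
  have hkk : k = k' := by
    have h1 := E.orbId_mv (E.ends k hk).1 hu (E.rootPt k')
    rw [hroot, E.rootPt_val, E.rootPt_val, (E.roots k hk).1, hi, (E.roots k' hk').1] at h1
    exact h1
  refine ⟨hkk, ?_⟩
  subst hkk
  refine E.pt_congr rfl _ _ ?_
  have := E.conj_mem hk hu hroot
  convert this using 1
  simp only [hudef, cc]
  group

/-- the further generator -/
noncomputable def tau (x : E.Pts) : E.Pts :=
  E.pt (E.D.dst (E.exists_form x).choose)
    (E.ends _ (E.exists_form x).choose_spec.choose).2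
    ((E.exists_form x).choose_spec.choose_spec.choose * E.e (E.D.mw (E.exists_form x).choose))

theorem tau_eq {k : ℕ} (hk : k < E.D.ne) {h : N} (hh : h ∈ E.Hsub) :
    E.tau (E.pt (E.D.src k) (E.ends k hk).1 (h * E.e (E.D.nw k))) =
      E.pt (E.D.dst k) (E.ends k hk).2 (h * E.e (E.D.mw k)) := by
  set x := E.pt (E.D.src k) (E.ends k hk).1 (h * E.e (E.D.nw k)) with hx
  obtain ⟨h2, h3⟩ := (E.exists_form x).choose_spec.choose_spec.choose_spec
  exact (E.form_unique hk (E.exists_form x).choose_spec.choose hh h2 h3).2.symm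

theorem tau_act {h : N} (hh : h ∈ E.Hsub) (x : E.Pts) : E.tau (E.act h x) = E.act h (E.tau x) := by
  obtain ⟨k, hk, h0, h0m, rfl⟩ := E.exists_form x
  rw [E.act_pt, E.tau_eq hk h0m, E.act_pt, ← mul_assoc,
    E.tau_eq hk (E.Hsub.mul_mem hh h0m), mul_assoc]

/-- the point of a node -/
def node (hr : 0 < E.D.r) (i : ℕ) (w : List ℕ) : E.Pts :=
  if hi : i < E.D.r then E.pt i hi (E.e w) else E.pt 0 hr (E.e w)

theorem node_eq (hr : 0 < E.D.r) {i : ℕ} (hi : i < E.D.r) (w : List ℕ) :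
    E.node hr i w = E.pt i hi (E.e w) := dif_pos hi

/-- how the letters move the points -/
noncomputable def F (l : ℕ) : E.Pts → E.Pts := if l = 5 then E.tau else E.act (E.gen l)

theorem loop_fix (hr : 0 < E.D.r) {i : ℕ} (hi : i < E.D.r) {w s : List ℕ} {st : List Step}
    {rel : List ℕ} (h6 : 6 ∉ rel) (h : E.D.loopOK i w st rel s = true) :
    runF E.F rel (E.node hr i w) = E.node hr i w := by
  simp only [Cert.loopOK, Bool.and_eq_true, decide_eq_true_eq] at h
  obtain ⟨hrel, h⟩ := h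
  split at h
  · exact absurd h (by simp)
  rename_i j v hw
  simp only [Bool.and_eq_true, decide_eq_true_eq, List.all_eq_true, List.contains_iff_mem] at h
  obtain ⟨⟨rfl, hs⟩, hag⟩ := h
  have key := Cert.walk_sound (D := E.D) E.F (E.node hr) E.D.sg (fun _ => true)
    (fun i w l hl => by
      unfold node
      rw [F, if_neg (by omega)]
      split <;> simp [E.act_pt, Setting.e])
    (fun k w h s hk _ hsp => by
      simp only [Cert.splitOK, Bool.and_eq_true, decide_eq_true_eq, List.all_eq_true,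
        List.contains_iff_mem] at hsp
      obtain ⟨⟨h0, hsm⟩, hag⟩ := hsp
      rw [F, if_pos rfl, E.node_eq hr (E.ends k hk).1, E.node_eq hr (E.ends k hk).2]
      have he : E.e (s ++ E.D.nw k ++ h) = E.e w := E.eq_of_agree hag
      simp only [Setting.e, evw_append] at he ⊢
      rw [← E.tau_eq hk (E.e_mem_Hsub.mpr h0)]
      refine congrArg E.tau (E.pt_congr rfl _ _ ?_)
      simp only [Setting.e] at *
      rw [← he]
      have := (E.stab (E.D.src k)).inv_mem (E.e_mem_stab hsm)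
      convert this using 1
      group)
    st (fun h' => absurd (hrel ▸ h') h6) hw
  rw [hrel] at key
  rw [key, E.node_eq hr hi, E.node_eq hr hi]
  refine (E.pt_congr rfl hi hi ?_).symm
  have := E.eq_of_agree hag
  simp only [Setting.e, evw_append] at this ⊢
  rw [← this, inv_mul_cancel_left]
  exact E.e_mem_stab hs

end Setting

end HN
end H77
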