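import Mathlib
import Cfsg.Agent.H77.HN.Model

/-!
The deductions give the action of the bigger group on the cosets of the subgroup.
-/

set_option autoImplicit false

namespace H77
namespace HN

variable {N : Type*} [Group N]

/-- the bigger group with its further generator -/
structure Amalgam (E : Setting N) (G : Type*) [Group G] where
  ι : N →* G
  gt : G
  comm : ∀ h ∈ E.Hsub, gt * ι h = ι h * gt
  gen_top : Subgroup.closure (insert gt (Set.range ι)) = ⊤
  rels : ∀ w ∈ dedRels,
    evw (fun l => if l = 5 then gt else if l = 6 then gt⁻¹ else ι (E.gen l)) w = 1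

namespace Amalgam

variable {E : Setting N} {G : Type*} [Group G] (A : Amalgam E G)

/-- the value of a letter -/
def L (l : ℕ) : G := if l = 5 then A.gt else if l = 6 then A.gt⁻¹ else A.ι (E.gen l)

/-- the cosets -/
abbrev Cos : Type _ := G ⧸ A.ι.range

/-- the base cosets, one for each tree edge -/
noncomputable def qs : List ℕ → List A.Cos
  | [] => [QuotientGroup.mk 1]
  | k :: ks =>
    qs ks ++ [((A.ι (E.e (E.D.mw k)))⁻¹ * A.gt * A.ι (E.e (E.D.nw k))) •
      (qs ks).getD (E.D.src k) (QuotientGroup.mk 1)]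

/-- the trees are sensible -/
def treeShape (D : Cert) : List ℕ → Bool
  | [] => true
  | k :: ks => decide (k < D.ne ∧ D.dst k = ks.length + 1 ∧ D.src k ≤ ks.length) && treeShape D ks

theorem qs_length (ks : List ℕ) : (A.qs ks).length = ks.length + 1 := by
  induction ks with
  | nil => rfl
  | cons k ks ih => simp [qs, ih]

/-- the base coset of an orbit -/
noncomputable def q (tl : List ℕ) (i : ℕ) : A.Cos := (A.qs tl).getD i (QuotientGroup.mk 1)

theorem q_zero (tl : List ℕ) : A.q tl 0 = QuotientGroup.mk 1 := by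
  induction tl with
  | nil => rfl
  | cons k ks ih =>
    unfold q at ih ⊢
    rw [qs, List.getD_append _ _ _ _ (by rw [A.qs_length]; omega), ih]

theorem tree_edge (tl : List ℕ) (h : treeShape E.D tl = true) :
    ∀ k ∈ tl, k < E.D.ne ∧
      (A.gt * A.ι (E.e (E.D.nw k))) • A.q tl (E.D.src k) = A.ι (E.e (E.D.mw k)) • A.q tl (E.D.dst k) := by
  induction tl with
  | nil => simp
  | cons k ks ih =>
    simp only [treeShape, Bool.and_eq_true, decide_eq_true_eq] at h
    obtain ⟨⟨hk, hd, hs⟩, hks⟩ := h
    have hlt : ∀ j, j ≤ ks.length → A.q (k :: ks) j = A.q ks j := fun j hj => by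
      unfold q
      rw [qs, List.getD_append _ _ _ _ (by rw [A.qs_length]; omega)]
    intro k' hk'
    rcases List.mem_cons.mp hk' with rfl | hk'
    · refine ⟨hk, ?_⟩
      rw [hlt _ hs, hd]
      unfold q
      rw [qs, List.getD_append_right _ _ _ _ (by rw [A.qs_length]), A.qs_length, Nat.sub_self,
        List.getD_cons_zero, smul_smul]
      group
    · obtain ⟨h1, h2⟩ := ih hks k' hk'
      have hb : ∀ (l : List ℕ), treeShape E.D l = true → ∀ a ∈ l, E.D.src a ≤ l.length ∧ E.D.dst a ≤ l.length := by
        intro l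
        induction l with
        | nil => simp
        | cons c cs ihc =>
          intro hl a ha
          simp only [treeShape, Bool.and_eq_true, decide_eq_true_eq] at hl
          obtain ⟨⟨-, hd', hs'⟩, hcs⟩ := hl
          simp only [List.length_cons]
          rcases List.mem_cons.mp ha with rfl | ha
          · exact ⟨by omega, by omega⟩
          · obtain ⟨a1, a2⟩ := ihc hcs a ha; exact ⟨by omega, by omega⟩
      obtain ⟨b1, b2⟩ := hb ks hks k' hk'
      exact ⟨h1, by rw [hlt _ b1, hlt _ b2]; exact h2⟩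

/-- what has been proved so far -/
def Valid (tl : List ℕ) (K : Known) : Prop :=
  (∀ p ∈ K.stabs, A.ι (E.gen p.2) • A.q tl p.1 = A.q tl p.1) ∧
  ∀ k ∈ K.edges, k < E.D.ne ∧
    (A.gt * A.ι (E.e (E.D.nw k))) • A.q tl (E.D.src k) = A.ι (E.e (E.D.mw k)) • A.q tl (E.D.dst k)

theorem fix_mem {tl : List ℕ} {K : Known} (hK : A.Valid tl K) {i : ℕ} {s : List ℕ}
    (hs : ∀ l ∈ s, l ∈ K.fix i) : A.ι (E.e s) • A.q tl i = A.q tl i := by
  have : E.e s ∈ (MulAction.stabilizer G (A.q tl i)).comap A.ι := by
    refine evw_mem fun l hl => ?_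
    have := hs l hl
    simp only [Known.fix, List.mem_map, List.mem_filter, beq_iff_eq] at this
    obtain ⟨p, ⟨hp, rfl⟩, rfl⟩ := this
    exact hK.1 p hp
  exact this

/-- the point of a node -/
noncomputable def node (tl : List ℕ) (i : ℕ) (w : List ℕ) : A.Cos := A.ι (E.e w) • A.q tl i

theorem split_node {tl : List ℕ} {K : Known} (hK : A.Valid tl K) {i : ℕ} {w u h s : List ℕ}
    (hsp : E.D.splitOK (K.fix i) w u h s = true) :
    E.e h ∈ E.Hsub ∧ A.node tl i w = (A.ι (E.e h) * A.ι (E.e u)) • A.q tl i := by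
  simp only [Cert.splitOK, Bool.and_eq_true, decide_eq_true_eq, List.all_eq_true,
    List.contains_iff_mem] at hsp
  obtain ⟨⟨h0, hs⟩, hag⟩ := hsp
  refine ⟨E.e_mem_Hsub.mpr h0, ?_⟩
  have he := E.eq_of_agree hag
  rw [node, ← he]
  simp only [Setting.e, evw_append, map_mul, mul_smul]
  rw [A.fix_mem hK hs]

theorem runF_smul (w : List ℕ) (x : A.Cos) : runF (fun l y => A.L l • y) w x = evw A.L w • x := by
  induction w generalizing x with
  | nil => simp [runF]
  | cons l w ih => simp [runF, ih, mul_smul]

theorem walk_node {tl : List ℕ} {K : Known} (hK : A.Valid tl K) {st : List Step} {i j : ℕ}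
    {w v : List ℕ} (h : E.D.walk K.fix (fun k => K.edges.contains k) st i w = some (j, v)) :
    evw A.L (pathWord st) • A.node tl i w = A.node tl j v := by
  rw [← A.runF_smul]
  refine Cert.walk_sound (D := E.D) _ (A.node tl) _ _ ?_ ?_ st (fun _ => ?_) h
  · intro i w l hl
    simp only [node, L]
    rw [if_neg (by omega), if_neg (by omega), smul_smul, ← map_mul]
    simp [Setting.e]
  · intro k w h s _ he hsp
    obtain ⟨hh, hn⟩ := A.split_node hK hsp
    rw [List.contains_iff_mem] at he
    have h5 : A.L 5 = A.gt := by simp [L]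
    show A.L 5 • A.node tl _ w = _
    rw [hn, h5, smul_smul, ← mul_assoc, A.comm _ hh, mul_assoc, mul_smul, (hK.2 k he).2,
      smul_smul, ← map_mul, node]
    simp [Setting.e]
  · intro k w h s _ he hsp
    obtain ⟨hh, hn⟩ := A.split_node hK hsp
    rw [List.contains_iff_mem] at he
    show A.L 6 • A.node tl _ w = _
    have h6 : A.L 6 = A.gt⁻¹ := by simp [L]
    rw [hn, h6, inv_smul_eq_iff, node]
    simp only [Setting.e, evw_append, map_mul]
    rw [smul_smul, ← mul_assoc, A.comm _ hh, mul_assoc (A.ι (E.e h)), mul_smul, mul_smul,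
      (hK.2 k he).2]


end Amalgam

end HN
end H77
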