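import Mathlib
import Cfsg.Agent.H77.HN.Upper

/-!
Soundness of the deductions and the bijection between the points and the cosets.
-/

set_option autoImplicit false

namespace H77
namespace HN

namespace Cert

theorem walk_letters {D : Cert} {known : ℕ → List ℕ} {edge : ℕ → Bool} : ∀ (st : List Step) {i : ℕ}
    {w : List ℕ} {r : ℕ × List ℕ}, D.walk known edge st i w = some r → ∀ l ∈ pathWord st, l < 7 := by
  intro st
  induction st with
  | nil => intro i w r _ l hl; simp [pathWord] at hl
  | cons a st ih =>
    intro i w r h l hl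
    cases a with
    | lett x =>
      simp only [walk] at h
      split at h
      · rcases List.mem_cons.mp hl with rfl | hl
        · show (Step.lett _).letter < 7; simp only [Step.letter]; omega
        · exact ih h l hl
      · exact absurd h (by simp)
    | fwd k hh s =>
      simp only [walk] at h
      cases hc : (decide (k < D.ne ∧ D.src k = i) && edge k && D.splitOK (known i) w (D.nw k) hh s) <;>
        rw [hc] at h
      · exact absurd h (by simp)
      · rcases List.mem_cons.mp hl with rfl | hl
        · show (5 : ℕ) < 7; omega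
        · exact ih h l hl
    | bwd k hh s =>
      simp only [walk] at h
      cases hc : (decide (k < D.ne ∧ D.dst k = i) && edge k && D.splitOK (known i) w (D.mw k) hh s) <;>
        rw [hc] at h
      · exact absurd h (by simp)
      · rcases List.mem_cons.mp hl with rfl | hl
        · show (6 : ℕ) < 7; omega
        · exact ih h l hl

end Cert

variable {N : Type*} [Group N] {E : Setting N} {G : Type*} [Group G]

namespace Amalgam

variable (A : Amalgam E G)

theorem L_invP (hbase : ∀ l < 5, E.D.iv l = invP l) {l : ℕ} (hl : l < 7) :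
    A.L (invP l) = (A.L l)⁻¹ := by
  rcases (show l = 5 ∨ l = 6 ∨ l < 5 by omega) with rfl | rfl | h
  · simp [L, invP]
  · simp [L, invP]
  · have h2 : invP l < 5 := by interval_cases l <;> simp [invP]
    rw [L, L, if_neg (by omega), if_neg (by omega), if_neg (by omega), if_neg (by omega),
      ← hbase l h, E.hiv, map_inv]

theorem evw_L_invw (hbase : ∀ l < 5, E.D.iv l = invP l) (w : List ℕ) (h : ∀ l ∈ w, l < 7) :
    evw A.L (invw invP w) = (evw A.L w)⁻¹ := by
  induction w with
  | nil => simp [invw]
  | cons l w ih =>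
    simp only [List.mem_cons, forall_eq_or_imp] at h
    have := ih h.2
    simp only [invw] at this
    simp [invw, this, A.L_invP hbase h.1]

theorem dedOne_sound (hbase : ∀ l < 5, E.D.iv l = invP l) {tl : List ℕ} {K K' : Known}
    (hK : A.Valid tl K) (d : Ded) (h : E.D.dedOne K d = some K') : A.Valid tl K' := by
  cases d with
  | stab i e w st =>
    simp only [Cert.dedOne, Bool.cond_eq_ite, Option.ite_none_right_eq_some, Option.some.injEq] at h
    obtain ⟨hc, h⟩ := h
    subst h
    simp only [Bool.and_eq_true, List.contains_iff_mem] at hc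
    obtain ⟨hrel, hw⟩ := hc
    split at hw
    · exact absurd hw (by simp)
    rename_i j v hwalk
    simp only [Bool.and_eq_true, decide_eq_true_eq] at hw
    obtain ⟨rfl, hag⟩ := hw
    refine ⟨fun p hp => ?_, hK.2⟩
    rcases List.mem_cons.mp hp with rfl | hp
    · have h1 := A.walk_node hK hwalk
      rw [show evw A.L (pathWord st) = 1 from A.rels _ hrel, one_smul] at h1
      have he := E.eq_of_agree hag
      simp only [Setting.e, evw_singleton, evw_append, evw_invw E.hiv] at he
      simp only [node] at h1
      simp only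
      rw [he, map_mul, map_inv, mul_smul, inv_smul_eq_iff, ← h1]
    · exact hK.1 p hp
  | edge k i w f b h₁ s h₂ s' =>
    simp only [Cert.dedOne, Bool.cond_eq_ite, Option.ite_none_right_eq_some, Option.some.injEq] at h
    obtain ⟨hc, h⟩ := h
    subst h
    simp only [Bool.and_eq_true, decide_eq_true_eq, List.contains_iff_mem] at hc
    obtain ⟨⟨hk, hrel⟩, hw⟩ := hc
    split at hw
    swap
    · exact absurd hw (by simp)
    rename_i _ _ j1 v1 j2 v2 hf hb
    simp only [Bool.and_eq_true, decide_eq_true_eq] at hw
    obtain ⟨⟨⟨rfl, rfl, rfl⟩, hs1⟩, hs2⟩ := hw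
    refine ⟨hK.1, fun k' hk' => ?_⟩
    rcases List.mem_cons.mp hk' with rfl | hk'
    swap
    · exact hK.2 k' hk'
    refine ⟨hk, ?_⟩
    have h1 := A.walk_node hK hf
    have h2 := A.walk_node hK hb
    obtain ⟨hh, hn1⟩ := A.split_node hK hs1
    obtain ⟨-, hn2⟩ := A.split_node hK hs2
    have hr : evw A.L (pathWord f ++ 5 :: invw invP (pathWord b)) = 1 := A.rels _ hrel
    rw [evw_append, evw_cons, A.evw_L_invw hbase _ (Cert.walk_letters b hb),
      show A.L 5 = A.gt by simp [L], mul_assoc, inv_mul_eq_one] at hr
    rw [hr, mul_smul, h1, hn1, hn2, smul_smul, ← mul_assoc, A.comm _ hh, mul_assoc, mul_smul,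
      mul_smul _ _ (A.q tl (E.D.dst k'))] at h2
    exact smul_left_cancel _ h2

theorem dedAll_sound (hbase : ∀ l < 5, E.D.iv l = invP l) {tl : List ℕ} :
    ∀ (ds : List Ded) {K K' : Known}, A.Valid tl K → E.D.dedAll K ds = some K' → A.Valid tl K' := by
  intro ds
  induction ds with
  | nil => intro K K' hK h; simp only [Cert.dedAll, Option.some.injEq] at h; exact h ▸ hK
  | cons d ds ih =>
    intro K K' hK h
    simp only [Cert.dedAll] at h
    cases hd : E.D.dedOne K d <;> rw [hd] at h
    · exact absurd h (by simp)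
    · exact ih (A.dedOne_sound hbase hK d hd) h

/-- what holds at the start -/
def init (tl : List ℕ) : Known := ⟨(List.range 5).map (fun l => (0, l)), tl⟩

theorem init_valid (tl : List ℕ) (htl : treeShape E.D tl = true) : A.Valid tl (init tl) := by
  refine ⟨fun p hp => ?_, A.tree_edge tl htl⟩
  simp only [init, List.mem_map] at hp
  obtain ⟨l, -, rfl⟩ := hp
  rw [A.q_zero, MulAction.Quotient.smul_mk, QuotientGroup.eq, smul_eq_mul, mul_one, mul_one]
  exact inv_mem ⟨_, rfl⟩

/-- everything is known -/
def done (D : Cert) (K : Known) : Bool :=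
  (List.range D.ne).all (fun k => K.edges.contains k) &&
    (List.range D.r).all (fun i => (D.sg i).all (fun l => (K.fix i).contains l))

variable {tl : List ℕ} {K : Known} (hK : A.Valid tl K) (hdone : done E.D K = true)

include hK hdone in
theorem stab_fix {i : ℕ} (hi : i < E.D.r) {g : N} (hg : g ∈ E.stab i) :
    A.ι g • A.q tl i = A.q tl i := by
  have h2 : E.stab i ≤ (MulAction.stabilizer G (A.q tl i)).comap A.ι := by
    rw [Setting.stab, Subgroup.closure_le]
    rintro _ ⟨l, hl, rfl⟩
    simp only [done, Bool.and_eq_true, List.all_eq_true, List.mem_range, List.contains_iff_mem] at hdone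
    show A.ι (E.gen l) • A.q tl i = A.q tl i
    have := A.fix_mem hK (i := i) (s := [l]) (by simpa using hdone.2 i hi l hl)
    simpa [Setting.e] using this
  exact h2 hg

include hK hdone in
theorem edge_known {k : ℕ} (hk : k < E.D.ne) :
    (A.gt * A.ι (E.e (E.D.nw k))) • A.q tl (E.D.src k) = A.ι (E.e (E.D.mw k)) • A.q tl (E.D.dst k) := by
  simp only [done, Bool.and_eq_true, List.all_eq_true, List.mem_range, List.contains_iff_mem] at hdone
  exact (hK.2 k (hdone.1 k hk)).2

/-- from points to cosets -/
noncomputable def toCos (tl : List ℕ) (x : E.Pts) : A.Cos := A.ι x.2.out • A.q tl x.1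

include hK hdone in
theorem toCos_pt {i : ℕ} (hi : i < E.D.r) (g : N) :
    A.toCos tl (E.pt i hi g) = A.ι g • A.q tl i := by
  show A.ι (QuotientGroup.mk g : N ⧸ E.stab i).out • A.q tl i = _
  obtain ⟨u, hu⟩ := QuotientGroup.mk_out_eq_mul (E.stab i) g
  rw [hu, map_mul, mul_smul, A.stab_fix hK hdone hi u.2]

include hK hdone in
theorem toCos_act (g : N) (x : E.Pts) : A.toCos tl (E.act g x) = A.ι g • A.toCos tl x := by
  obtain ⟨⟨i, hi⟩, q⟩ := x
  obtain ⟨a, rfl⟩ := QuotientGroup.mk_surjective q
  show A.toCos tl (E.pt i hi (g * a)) = A.ι g • A.toCos tl (E.pt i hi a)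
  rw [A.toCos_pt hK hdone, A.toCos_pt hK hdone, map_mul, mul_smul]

include hK hdone in
theorem toCos_tau (x : E.Pts) : A.toCos tl (E.tau x) = A.gt • A.toCos tl x := by
  obtain ⟨k, hk, h, hh, rfl⟩ := E.exists_form x
  rw [E.tau_eq hk hh, A.toCos_pt hK hdone, A.toCos_pt hK hdone, map_mul, map_mul, mul_smul,
    mul_smul, ← A.edge_known hK hdone hk, smul_smul, smul_smul, smul_smul, ← mul_assoc,
    ← A.comm h hh, mul_assoc]

include hK hdone in
theorem toCos_surjective [Finite E.Pts] (hr : 0 < E.D.r) : Function.Surjective (A.toCos tl) := by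
  let M : Subgroup G :=
    { carrier := {g | (fun y => g • y) '' Set.range (A.toCos tl) = Set.range (A.toCos tl)}
      one_mem' := by simp
      mul_mem' := fun {a b} ha hb => by
        simp only [Set.mem_ofPred_eq] at ha hb ⊢
        rw [show (fun y : A.Cos => (a * b) • y) = (fun y => a • y) ∘ (fun y => b • y) from
          funext fun y => mul_smul a b y, Set.image_comp, hb, ha]
      inv_mem' := fun {a} ha => by
        simp only [Set.mem_ofPred_eq] at ha ⊢
        conv_lhs => rw [← ha]
        rw [← Set.image_comp]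
        simp }
  have hle : (insert A.gt (Set.range A.ι)) ⊆ (M : Set G) := by
    intro g hg
    show (fun y => g • y) '' _ = _
    refine Set.eq_of_subset_of_ncard_le ?_ ?_ (Set.finite_range _)
    · rintro _ ⟨_, ⟨x, rfl⟩, rfl⟩
      rcases hg with rfl | ⟨n, rfl⟩
      · exact ⟨E.tau x, A.toCos_tau hK hdone x⟩
      · exact ⟨E.act n x, A.toCos_act hK hdone n x⟩
    · rw [Set.ncard_image_of_injective _ (MulAction.injective g)]
  intro y
  obtain ⟨g, rfl⟩ := QuotientGroup.mk_surjective y
  have hg : g ∈ M := by
    have : (⊤ : Subgroup G) ≤ M := A.gen_top ▸ (Subgroup.closure_le M).mpr hle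
    exact this (Subgroup.mem_top g)
  have h0 : (QuotientGroup.mk (1 : G) : A.Cos) ∈ Set.range (A.toCos tl) :=
    ⟨E.pt 0 hr 1, by rw [A.toCos_pt hK hdone, map_one, one_smul, A.q_zero]⟩
  have : (QuotientGroup.mk g : A.Cos) ∈ (fun y => g • y) '' Set.range (A.toCos tl) :=
    ⟨_, h0, by show g • _ = _; rw [MulAction.Quotient.smul_mk, smul_eq_mul, mul_one]⟩
  rwa [show (fun y => g • y) '' Set.range (A.toCos tl) = Set.range (A.toCos tl) from hg] at this

end Amalgam

end HN
end H77
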