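import Mathlib
import Cfsg.Agent.H77.HN.Ded

/-!
The orders of the stabilisers, the permutation given by the further generator, and the bijection
between the points and the cosets.
-/

set_option autoImplicit false

namespace H77
namespace HN

namespace Cert

/-- length of an orbit of a stabiliser on the points -/
noncomputable def orbLen (D : Cert) (i k : ℕ) : ℕ :=
  ((List.range D.np).filter fun c => Nat.beq (D.orbId i c) k).length

/-- where the end of an edge lies -/
def endId (D : Cert) (k : ℕ) : ℕ := D.orbId (D.dst k) (run D.T (invw D.iv (D.mw k)) 0)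

/-- the claimed orders agree along the tree edges -/
noncomputable def ordOK (D : Cert) (M : ℕ) (ord : List ℕ) (tl : List ℕ) : Bool :=
  Nat.beq (ord.getD 0 0) M && tl.all fun k =>
    decide (0 < ord.getD (D.src k) 0) &&
      Nat.beq (ord.getD (D.src k) 0 * D.orbLen (D.dst k) (D.endId k))
        (ord.getD (D.dst k) 0 * D.orbLen (D.src k) k)

end Cert

namespace Setting

variable {N : Type*} [Group N] (E : Setting N)

/-- a point of the action as an element of a stabiliser moves it -/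
def stabAct (i : ℕ) : MulAction (E.stab i) (Fin E.D.np) :=
  MulAction.compHom _ (E.R.φ.comp (E.stab i).subtype)

/-- the elements of a stabiliser fixing a point -/
def stabFix (i : ℕ) (c : Fin E.D.np) : Subgroup N := E.stab i ⊓ E.R.fixPt c

theorem card_orbit_stab {i : ℕ} (hi : i < E.D.r) (c : Fin E.D.np) :
    E.D.orbLen i (E.D.orbId i c) * Nat.card (E.stabFix i c) = Nat.card (E.stab i) := by
  letI := E.stabAct i
  have horb : MulAction.orbit (E.stab i) c = {d : Fin E.D.np | E.D.orbId i d = E.D.orbId i c} := by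
    ext d
    constructor
    · rintro ⟨⟨s, hs⟩, rfl⟩
      exact E.orbId_mv hi hs c
    · intro hd
      have h1 := E.tr_root hi d
      have h2 := E.tr_root hi c
      rw [show E.D.orbId i d = E.D.orbId i c from hd] at h1
      refine ⟨⟨E.tr i d * (E.tr i c)⁻¹, mul_mem (E.tr_mem hi d) (inv_mem (E.tr_mem hi c))⟩, ?_⟩
      show E.mv (E.tr i d * (E.tr i c)⁻¹) c = d
      have h3 : E.mv (E.tr i c)⁻¹ c = E.rootPt (E.D.orbId i c) := by
        conv_lhs => arg 3; rw [← h2]
        exact E.mv_inv_mv _ _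
      rw [E.mv_mul, h3, h1]
  have hlen : Nat.card (MulAction.orbit (E.stab i) c) = E.D.orbLen i (E.D.orbId i c) := by
    rw [horb, Cert.orbLen, Nat.card_coe_set_eq, ← List.toFinset_card_of_nodup (List.nodup_range.filter _)]
    rw [← Set.ncard_image_of_injective _ Fin.val_injective, ← Set.ncard_coe_finset]
    congr 1
    ext x
    simp only [Set.mem_image, Set.mem_ofPred_eq, List.coe_toFinset, List.mem_filter, List.mem_range,
      Nat.beq_eq]
    constructor
    · rintro ⟨d, hd, rfl⟩; exact ⟨d.2, hd⟩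
    · rintro ⟨hx, hx'⟩; exact ⟨⟨x, hx⟩, hx', rfl⟩
  have hst : Nat.card (MulAction.stabilizer (E.stab i) c) = Nat.card (E.stabFix i c) :=
    Nat.card_congr
      { toFun := fun s => ⟨s.1.1, ⟨s.1.2, s.2⟩⟩
        invFun := fun s => ⟨⟨s.1, s.2.1⟩, s.2.2⟩
        left_inv := fun _ => rfl
        right_inv := fun _ => rfl }
  rw [← hlen, ← hst]
  have h := Nat.card_congr (MulAction.orbitProdStabilizerEquivGroup (E.stab i) c)
  rw [Nat.card_prod] at h
  exact h

theorem act_pt_fix {i : ℕ} (hi : i < E.D.r) {h a : N} :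
    E.act h (E.pt i hi a) = E.pt i hi a ↔ a⁻¹ * h * a ∈ E.stab i := by
  rw [E.act_pt]
  simp only [Setting.pt, Sigma.mk.injEq, heq_eq_eq, true_and, QuotientGroup.eq]
  have e : (h * a)⁻¹ * a = (a⁻¹ * h * a)⁻¹ := by group
  rw [e, inv_mem_iff]

/-- the fixed elements of the stabiliser of 0 at a point, inside a stabiliser -/
def conjEquiv {i : ℕ} (hi : i < E.D.r) (a : N) :
    {h : N // h ∈ E.Hsub ∧ E.act h (E.pt i hi a) = E.pt i hi a} ≃
      E.stabFix i (E.mv a⁻¹ ⟨0, E.hnp⟩) where
  toFun h := ⟨a⁻¹ * h.1 * a, (E.act_pt_fix hi).mp h.2.2, by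
    show E.mv (a⁻¹ * h.1 * a) (E.mv a⁻¹ _) = E.mv a⁻¹ _
    rw [E.mv_mul, E.mv_mv_inv, E.mv_mul,
      show E.mv h.1 ⟨0, E.hnp⟩ = ⟨0, E.hnp⟩ from h.2.1]⟩
  invFun s := ⟨a * s.1 * a⁻¹, by
      show E.mv (a * s.1 * a⁻¹) _ = _
      rw [E.mv_mul, E.mv_mul, show E.mv s.1 (E.mv a⁻¹ ⟨0, E.hnp⟩) = E.mv a⁻¹ ⟨0, E.hnp⟩ from s.2.2,
        E.mv_mv_inv],
    (E.act_pt_fix hi).mpr (by have h2 : s.1 ∈ E.stab i := s.2.1; convert h2 using 1; group)⟩
  left_inv h := Subtype.ext (by group)
  right_inv s := Subtype.ext (by group)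

theorem card_step [Finite N] {k : ℕ} (hk : k < E.D.ne) (hinj : Function.Injective E.tau) :
    Nat.card (E.stab (E.D.src k)) * E.D.orbLen (E.D.dst k) (E.D.endId k) =
      Nat.card (E.stab (E.D.dst k)) * E.D.orbLen (E.D.src k) k := by
  obtain ⟨hs, hd⟩ := E.ends k hk
  have htau := E.tau_eq hk E.Hsub.one_mem
  rw [one_mul, one_mul] at htau
  have h1 := E.conjEquiv hs (E.e (E.D.nw k))
  have h2 := E.conjEquiv hd (E.e (E.D.mw k))
  have hmid : Nat.card {h : N // h ∈ E.Hsub ∧ E.act h (E.pt _ hs (E.e (E.D.nw k))) = E.pt _ hs (E.e (E.D.nw k))} =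
      Nat.card {h : N // h ∈ E.Hsub ∧ E.act h (E.pt _ hd (E.e (E.D.mw k))) = E.pt _ hd (E.e (E.D.mw k))} := by
    refine Nat.card_congr (Equiv.subtypeEquivRight fun h => and_congr_right fun hh => ?_)
    rw [← htau, ← E.tau_act hh]
    exact (hinj.eq_iff).symm
  rw [Nat.card_congr h1, Nat.card_congr h2] at hmid
  have e1 := E.card_orbit_stab hs (E.rootPt k)
  rw [E.rootPt_val, (E.roots k hk).1] at e1
  have e2 := E.card_orbit_stab hd (E.mv (E.e (E.D.mw k))⁻¹ ⟨0, E.hnp⟩)
  have hval : ((E.mv (E.e (E.D.mw k))⁻¹ ⟨0, E.hnp⟩ : Fin E.D.np) : ℕ) =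
      run E.D.T (invw E.D.iv (E.D.mw k)) 0 := by
    rw [mv, ← E.e_invw, E.R.evw_apply]
  rw [hval] at e2
  rw [← e1, ← e2]
  change Nat.card (E.stabFix (E.D.src k) (E.rootPt k)) = _ at hmid
  rw [← hmid]
  simp only [Cert.endId]
  ring

theorem card_stab [Finite N] (hinj : Function.Injective E.tau) {tl : List ℕ} {ord : List ℕ} {M : ℕ}
    (hM : Nat.card N = M) (h0 : E.stab 0 = ⊤) (hshape : Amalgam.treeShape E.D tl = true)
    (hord : E.D.ordOK M ord tl = true) :
    ∀ i ≤ tl.length, Nat.card (E.stab i) = ord.getD i 0 := by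
  simp only [Cert.ordOK, Bool.and_eq_true, Nat.beq_eq, List.all_eq_true, decide_eq_true_eq] at hord
  obtain ⟨ho0, hord⟩ := hord
  induction tl with
  | nil =>
    intro i hi
    obtain rfl : i = 0 := Nat.le_zero.mp hi
    rw [h0, Subgroup.card_top, hM, ho0]
  | cons k ks ih =>
    simp only [Amalgam.treeShape, Bool.and_eq_true, decide_eq_true_eq] at hshape
    obtain ⟨⟨hk, hdst, hsrc⟩, hks⟩ := hshape
    have hks' := ih hks (fun a ha => hord a (List.mem_cons_of_mem _ ha))
    intro i hi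
    rcases Nat.lt_or_ge i (ks.length + 1) with hlt | hge
    · exact hks' i (by omega)
    obtain rfl : i = ks.length + 1 := by simp at hi; omega
    have hstep := E.card_step hk hinj
    obtain ⟨hpos, heq⟩ := hord k List.mem_cons_self
    rw [hks' _ hsrc, heq, hdst] at hstep
    have hlen : 0 < E.D.orbLen (E.D.src k) k := by
      have e1 := E.card_orbit_stab (E.ends k hk).1 (E.rootPt k)
      rw [E.rootPt_val, (E.roots k hk).1, hks' _ hsrc] at e1
      rcases Nat.eq_zero_or_pos (E.D.orbLen (E.D.src k) k) with hz | hz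
      · rw [hz, zero_mul] at e1; omega
      · exact hz
    exact (Nat.eq_of_mul_eq_mul_right hlen hstep).symm

end Setting

namespace Amalgam

variable {N : Type*} [Group N] {E : Setting N} {G : Type*} [Group G] (A : Amalgam E G)

/-- the bijection between the points and the cosets -/
theorem bijective [Finite E.Pts] {tl : List ℕ} {K : Known} (hK : A.Valid tl K)
    (hdone : done E.D K = true) (hr : 0 < E.D.r) (hshape : treeShape E.D tl = true)
    (hlen : E.D.r = tl.length + 1) (h0 : E.stab 0 = ⊤)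
    (Ψ : G →* Equiv.Perm E.Pts) (hι : ∀ n x, Ψ (A.ι n) x = E.act n x)
    (ht : ∀ x, Ψ A.gt x = E.tau x) :
    Function.Bijective (A.toCos tl) := by
  refine ⟨?_, A.toCos_surjective hK hdone hr⟩
  let x0 : E.Pts := E.pt 0 hr 1
  have hfix : ∀ n, Ψ (A.ι n) x0 = x0 := fun n => by
    rw [hι, E.act_pt, mul_one]
    exact E.pt_congr rfl hr hr (by rw [h0]; trivial)
  let back : A.Cos → E.Pts := Quotient.lift (fun g => Ψ g x0) (by
    intro a b hab
    obtain ⟨n, hn⟩ := QuotientGroup.leftRel_apply.mp hab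
    show Ψ a x0 = Ψ b x0
    rw [eq_inv_mul_iff_mul_eq] at hn
    rw [← hn, map_mul, Equiv.Perm.mul_apply, hfix])
  have hback : ∀ g, back (QuotientGroup.mk g) = Ψ g x0 := fun g => rfl
  have hsm : ∀ (g : G) (y : A.Cos), back (g • y) = Ψ g (back y) := by
    intro g y
    obtain ⟨a, rfl⟩ := QuotientGroup.mk_surjective y
    rw [MulAction.Quotient.smul_mk, hback, hback, smul_eq_mul, map_mul, Equiv.Perm.mul_apply]
  have hq : ∀ l, treeShape E.D l = true → (∀ a ∈ l, a ∈ tl) → ∀ i, i ≤ l.length →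
      ∀ hi : i < E.D.r, back (A.q tl i) = E.pt i hi 1 := by
    intro l
    induction l with
    | nil =>
      intro _ _ i hi hi'
      obtain rfl : i = 0 := Nat.le_zero.mp hi
      rw [A.q_zero, hback, map_one]
      rfl
    | cons k ks ih =>
      intro hl hsub i hi hi'
      simp only [treeShape, Bool.and_eq_true, decide_eq_true_eq] at hl
      obtain ⟨⟨hk, hd, hs⟩, hks⟩ := hl
      have ih' := ih hks fun a ha => hsub a (List.mem_cons_of_mem _ ha)
      rcases Nat.lt_or_ge i (ks.length + 1) with hlt | hge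
      · exact ih' i (by omega) hi'
      have hieq : i = E.D.dst k := by simp at hi; omega
      subst hieq
      have he := (A.tree_edge tl hshape k (hsub k List.mem_cons_self)).2
      have h2 : A.q tl (E.D.dst k) = ((A.ι (E.e (E.D.mw k)))⁻¹ * A.gt * A.ι (E.e (E.D.nw k))) •
          A.q tl (E.D.src k) := by
        rw [mul_assoc, mul_smul, he, inv_smul_smul]
      rw [h2, hsm, ih' _ hs (E.ends k hk).1, map_mul, map_mul, map_inv, Equiv.Perm.mul_apply,
        Equiv.Perm.mul_apply, hι, E.act_pt, mul_one, ht,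
        show E.e (E.D.nw k) = 1 * E.e (E.D.nw k) from (one_mul _).symm,
        E.tau_eq hk E.Hsub.one_mem, one_mul, Equiv.Perm.inv_eq_iff_eq, hι, E.act_pt, mul_one]
  have hleft : ∀ x, back (A.toCos tl x) = x := by
    intro x
    obtain ⟨⟨i, hi⟩, c⟩ := x
    obtain ⟨g, rfl⟩ := QuotientGroup.mk_surjective c
    show back (A.toCos tl (E.pt i hi g)) = E.pt i hi g
    rw [A.toCos_pt hK hdone hi, hsm, hq tl hshape (fun a ha => ha) i (by omega) hi, hι, E.act_pt,
      mul_one]
  exact Function.LeftInverse.injective hleft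

end Amalgam

end HN
end H77
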