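import Mathlib
import Cfsg.Agent.H77.HN.Count

/-!
Checks in pieces, for the data of a certificate.
-/

set_option autoImplicit false

namespace H77
namespace HN

/-- every number in a range passes -/
noncomputable def allBelow (f : ℕ → Bool) (lo : ℕ) : ℕ → Bool
  | 0 => true
  | m + 1 => f (lo + m) && allBelow f lo m

theorem allBelow_spec {f : ℕ → Bool} {lo : ℕ} : ∀ {len : ℕ}, allBelow f lo len = true →
    ∀ c, lo ≤ c → c < lo + len → f c = true := by
  intro len
  induction len with
  | zero => intro _ c h1 h2; omega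
  | succ m ih =>
    intro h c h1 h2
    simp only [allBelow, Bool.and_eq_true] at h
    rcases Nat.lt_succ_iff_lt_or_eq.mp (show c < (lo + m) + 1 by omega) with h3 | h3
    · exact ih h.2 c h1 h3
    · exact h3 ▸ h.1

theorem allBelow_glue {f : ℕ → Bool} {lo a b : ℕ} (h1 : allBelow f lo a = true)
    (h2 : allBelow f (lo + a) b = true) : allBelow f lo (a + b) = true := by
  induction b with
  | zero => simpa using h1
  | succ b ih =>
    simp only [allBelow, Bool.and_eq_true] at h2
    rw [← Nat.add_assoc]
    simp only [allBelow, Bool.and_eq_true]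
    exact ⟨by rw [← Nat.add_assoc]; exact h2.1, ih h2.2⟩

/-- the table of a letter is that of its word -/
noncomputable def letterOK (T T5 : ℕ → ℕ → ℕ) (w : List ℕ) (l np : ℕ) : Bool :=
  allBelow (fun c => Nat.beq (T l c) (runK T5 w c)) 0 np

theorem letterOK_spec {G : Type*} [Group G] {g5 : ℕ → G} {n : ℕ} {T5 T : ℕ → ℕ → ℕ}
    (R : Rep g5 n T5) {w : List ℕ} {l : ℕ} (h : letterOK T T5 w l n = true) (p : Fin n) :
    (R.φ (evw g5 w) p : ℕ) = T l p := by
  have := allBelow_spec h p (Nat.zero_le _) (by have := p.2; omega)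
  rw [Nat.beq_eq, runK_eq] at this
  rw [R.evw_apply, this]

/-- two letters undo each other on the points -/
noncomputable def undoOK (T : ℕ → ℕ → ℕ) (l l' np : ℕ) : Bool :=
  allBelow (fun c => Nat.beq (T l (T l' c)) c && Nat.ble (T l' c + 1) np) 0 np

namespace Cert

variable (D : Cert)

theorem schreierOK_spec {i : ℕ} : ∀ {wit : List (List ℕ)} {c : ℕ}, D.schreierOK i c wit = true →
    ∀ j < wit.length, ∀ l ∈ D.sg i, ∃ s, D.schreierOne i (c + j) l s = true := by
  intro wit
  induction wit with
  | nil => intro c _ j hj; simp at hj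
  | cons ws rest ih =>
    intro c h j hj l hl
    simp only [schreierOK, Bool.and_eq_true, decide_eq_true_eq, List.all_eq_true] at h
    obtain ⟨⟨hlen, hall⟩, hrest⟩ := h
    cases j with
    | zero =>
      obtain ⟨a, ha, rfl⟩ := List.getElem_of_mem hl
      refine ⟨unpack (ws[a]'(by omega)), ?_⟩
      have := hall ((D.sg i)[a], ws[a]'(by omega))
        (List.mem_iff_getElem.mpr ⟨a, by simp; omega, by simp⟩)
      simpa using this
    | succ j =>
      obtain ⟨s, hs⟩ := ih hrest j (by simpa using hj) l hl
      exact ⟨s, by rwa [show c + (j + 1) = c + 1 + j by omega]⟩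

/-- the steps of a loop with witnesses for the further generator -/
def mkSteps : List ℕ → List (ℕ × ℕ × ℕ) → List Step
  | [], _ => []
  | 5 :: ls, (k, h, s) :: rest => .fwd k (unpack h) (unpack s) :: mkSteps ls rest
  | l :: ls, rest => .lett l :: mkSteps ls rest

/-- the loops at the starts of the edges from `k` on -/
noncomputable def loopsEdge (rel : List ℕ) : ℕ → List (List (ℕ × ℕ × ℕ) × ℕ) → Bool
  | _, [] => true
  | k, (st, s) :: rest =>
    decide (k < D.ne) && D.loopOK (D.src k) (D.nw k) (mkSteps rel st) rel (unpack s) &&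
      loopsEdge rel (k + 1) rest

theorem loopsEdge_spec {rel : List ℕ} : ∀ {ls : List (List (ℕ × ℕ × ℕ) × ℕ)} {k : ℕ},
    D.loopsEdge rel k ls = true → ∀ j < ls.length,
      ∃ st s, D.loopOK (D.src (k + j)) (D.nw (k + j)) st rel s = true := by
  intro ls
  induction ls with
  | nil => intro k _ j hj; simp at hj
  | cons p rest ih =>
    intro k h j hj
    obtain ⟨st, s⟩ := p
    simp only [loopsEdge, Bool.and_eq_true] at h
    cases j with
    | zero => exact ⟨_, _, h.1.2⟩
    | succ j =>
      have := ih h.2 j (by simpa using hj)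
      rwa [show k + (j + 1) = k + 1 + j by omega]

/-- the loops starting at translates of the start of one edge -/
noncomputable def loopsShift (rel : List ℕ) (k : ℕ) :
    List (ℕ × ℕ) → List (List (ℕ × ℕ × ℕ) × ℕ) → Bool
  | [], [] => true
  | (_, q) :: qs, (st, s) :: rest =>
    D.loopOK (D.src k) (D.nw k ++ invw D.iv (unpack q)) (mkSteps rel st) rel (unpack s) &&
      loopsShift rel k qs rest
  | _, _ => false

theorem loopsShift_spec {rel : List ℕ} {k : ℕ} : ∀ {qs : List (ℕ × ℕ)}
    {ls : List (List (ℕ × ℕ × ℕ) × ℕ)}, D.loopsShift rel k qs ls = true → ∀ p ∈ qs,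
      ∃ st s, D.loopOK (D.src k) (D.nw k ++ invw D.iv (unpack p.2)) st rel s = true := by
  intro qs
  induction qs with
  | nil => intro ls _ p hp; simp at hp
  | cons q qs ih =>
    intro ls h p hp
    obtain ⟨c, q⟩ := q
    cases ls with
    | nil => simp [loopsShift] at h
    | cons e rest =>
      obtain ⟨st, s⟩ := e
      simp only [loopsShift, Bool.and_eq_true] at h
      rcases List.mem_cons.mp hp with rfl | hp
      · exact ⟨_, _, h.1⟩
      · exact ih h.2 p hp

/-- the roots -/
noncomputable def rootsOK : Bool :=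
  (List.range D.ne).all fun k => Nat.beq (D.orbId (D.src k) (D.root k)) k &&
    Nat.beq (D.dep (D.src k) (D.root k)) 0

/-- the connecting letters -/
noncomputable def conjOK : Bool :=
  (List.range D.ne).all fun k => agree D.T D.B [D.cl k] (D.nw k ++ invw D.iv (D.mw k))

/-- the ends of the edges -/
def endsOK : Bool := (List.range D.ne).all fun k => decide (D.src k < D.r ∧ D.dst k < D.r)

/-- elements of the stabiliser of 0 fixing the image of 0 under the letter 0 commute with it -/
noncomputable def centOK (hl : List ℕ) (qs : List (ℕ × ℕ)) : Bool :=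
  qs.all fun p => Nat.beq (runK D.T (unpack p.2) (D.T 0 0)) p.1 &&
    (unpack p.2).all (fun l => hl.contains l) &&
    hl.all fun l => (qs.find? fun q => Nat.beq q.1 (D.T l p.1)).any fun q =>
      agree D.T D.B (0 :: (unpack p.2 ++ l :: invw D.iv (unpack q.2)))
        ((unpack p.2 ++ l :: invw D.iv (unpack q.2)) ++ [0])

end Cert

end HN
end H77
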