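import Mathlib
import Cfsg.Agent.H77.HN.Rels
import Cfsg.Agent.H77.HN.Chain
import Cfsg.Agent.H77.HN.Checks
import Cfsg.Agent.H77.HN.Data.Cert
import Cfsg.Agent.H77.HN.Data.Chain

/-!
The group presented by the relations on x, y, z alone, acting on 1408 points.
-/

set_option autoImplicit false
set_option maxRecDepth 100000

namespace H77
namespace HN

open Data (T)

/-- the upper bound for a group with these relations -/
structure XYZBound : Prop where
  bound : ∀ {Γ : Type} [Group Γ] {x y z : Γ}, XYZRel x y z →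
    Finite (Subgroup.closure ({x, y, z} : Set Γ)) ∧
      Nat.card (Subgroup.closure ({x, y, z} : Set Γ)) ≤ 177408000

/-- the three generators -/
inductive Gen3
  | x
  | y
  | z
  deriving DecidableEq

/-- forget the fourth generator -/
def Gen3.up : Gen3 → Cfsg.Spor.HN.Gen
  | .x => .x
  | .y => .y
  | .z => .z

def fx : FreeGroup Gen3 := FreeGroup.of .x
def fy : FreeGroup Gen3 := FreeGroup.of .y
def fz : FreeGroup Gen3 := FreeGroup.of .z

/-- the ten relators -/
def rels3 : List (FreeGroup Gen3) := [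
  fy ^ 6,
  (fx ^ 2) * fy * (fx ^ 2) * (fy⁻¹),
  (fx⁻¹ * fy⁻¹ * fx * fy) ^ 3,
  ((fx⁻¹) * (fy ^ 2) * fx * (fy ^ 3)) ^ 3,
  (fx * fy) ^ 8,
  (fx * fy * fx * (fy ^ 3)) ^ 4,
  fz ^ 2,
  (fz * fx) ^ 2,
  (fz⁻¹ * (fy * fx * fy * fx * (fy ^ 2) * fx * (fy⁻¹))⁻¹ * fz *
      (fy * fx * fy * fx * (fy ^ 2) * fx * (fy⁻¹))) * ((fx ^ 2)⁻¹),
  fz * (((((fy ^ 3) * fx * fy * fx * fy)⁻¹ * fz * ((fy ^ 3) * fx * fy * fx * fy)) * fx) ^ 3)]

/-- the group on x, y, z -/
abbrev N0 : Type := PresentedGroup {r | r ∈ rels3}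

def n0x : N0 := PresentedGroup.of .x
def n0y : N0 := PresentedGroup.of .y
def n0z : N0 := PresentedGroup.of .z

theorem n0_rel : XYZRel n0x n0y n0z := by
  have h : ∀ r ∈ rels3, PresentedGroup.mk {r | r ∈ rels3} r = (1 : N0) :=
    fun r hr => PresentedGroup.one_of_mem hr
  simp only [rels3, List.forall_mem_cons, List.not_mem_nil, IsEmpty.forall_iff, implies_true,
    and_true] at h
  obtain ⟨h1, h2, h3, h4, h5, h6, h7, h8, h9, h10⟩ := h
  exact ⟨h1, h2, h3, h4, h5, h6, h7, h8, h9, h10⟩

theorem n0_closure : Subgroup.closure ({n0x, n0y, n0z} : Set N0) = ⊤ := by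
  rw [eq_top_iff, ← PresentedGroup.closure_range_of, Subgroup.closure_le]
  rintro _ ⟨g, rfl⟩
  apply Subgroup.subset_closure
  cases g <;> simp [n0x, n0y, n0z]

/-- the inverse tables -/
theorem undo_base : (undoOK T 2 1 1408 && undoOK T 1 2 1408 && undoOK T 4 3 1408 &&
    undoOK T 3 4 1408 && undoOK T 0 0 1408) = true := by decide +kernel

theorem undo_spec {l l' : ℕ} (h : undoOK T l l' 1408 = true) (c : Fin 1408) :
    T l (T l' c) = c ∧ T l' c < 1408 := by
  have := allBelow_spec h c (Nat.zero_le _) (by have := c.2; omega)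
  simp only [Bool.and_eq_true, Nat.beq_eq, Nat.ble_eq] at this
  exact ⟨this.1, this.2⟩

/-- the permutation of two letters undoing each other -/
def permPair (l l' : ℕ) (h1 : undoOK T l l' 1408 = true) (h2 : undoOK T l' l 1408 = true) :
    Equiv.Perm (Fin 1408) where
  toFun c := ⟨T l c, (undo_spec h2 c).2⟩
  invFun c := ⟨T l' c, (undo_spec h1 c).2⟩
  left_inv c := Fin.ext (undo_spec h2 c).1
  right_inv c := Fin.ext (undo_spec h1 c).1

theorem undo_each : undoOK T 2 1 1408 = true ∧ undoOK T 1 2 1408 = true ∧ undoOK T 4 3 1408 = true ∧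
    undoOK T 3 4 1408 = true ∧ undoOK T 0 0 1408 = true := by
  have := undo_base
  simp only [Bool.and_eq_true] at this
  obtain ⟨⟨⟨⟨a, b⟩, c⟩, d⟩, e⟩ := this
  exact ⟨a, b, c, d, e⟩

/-- the permutations of x, y, z -/
def perm3 : Gen3 → Equiv.Perm (Fin 1408)
  | .x => permPair 2 1 undo_each.1 undo_each.2.1
  | .y => permPair 4 3 undo_each.2.2.1 undo_each.2.2.2.1
  | .z => permPair 0 0 undo_each.2.2.2.2 undo_each.2.2.2.2

/-- letters: z, x⁻¹, x, y⁻¹, y, as elements of the free group -/
def lett5 : ℕ → FreeGroup Gen3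
  | 0 => fz⁻¹
  | 1 => fx⁻¹
  | 2 => fx
  | 3 => fy⁻¹
  | 4 => fy
  | _ => 1

/-- a relator as a word in the five letters -/
def relWord (r : FreeGroup Gen3) : List ℕ :=
  (r.toWord.map fun p => match p.1, p.2 with
    | .x, true => 2 | .x, false => 1
    | .y, true => 4 | .y, false => 3
    | .z, true => 0 | .z, false => 0).reverse

theorem lift_eq (r : FreeGroup Gen3) (c : Fin 1408) :
    (FreeGroup.lift perm3 r c : ℕ) = run T (relWord r) c := by
  have h : ∀ L : List (Gen3 × Bool), ∀ c : Fin 1408, (FreeGroup.lift perm3 (FreeGroup.mk L) c : ℕ) =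
      run T ((L.map fun p => match p.1, p.2 with
        | .x, true => 2 | .x, false => 1
        | .y, true => 4 | .y, false => 3
        | .z, true => 0 | .z, false => 0).reverse) c := by
    intro L
    induction L with
    | nil => intro c; simp [FreeGroup.lift_mk, run]
    | cons p L ih =>
      intro c
      rw [List.map_cons, List.reverse_cons, run_append, ← ih c, FreeGroup.lift_mk, List.map_cons,
        List.prod_cons, Equiv.Perm.mul_apply, ← FreeGroup.lift_mk]
      obtain ⟨g, b⟩ := p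
      cases g <;> cases b <;> rfl
  conv_lhs => rw [← FreeGroup.mk_toWord (x := r)]
  exact h _ c

theorem rels3_ok : rels3.all (fun r => allBelow (fun c => Nat.beq (runK T (relWord r) c) c) 0 1408) =
    true := by decide +kernel

theorem perm3_rel : ∀ r ∈ {r | r ∈ rels3}, FreeGroup.lift perm3 r = 1 := by
  intro r hr
  have := List.all_eq_true.mp rels3_ok r hr
  refine Equiv.ext fun c => Fin.ext ?_
  have h2 := allBelow_spec this c (Nat.zero_le _) (by have := c.2; omega)
  rw [Nat.beq_eq, runK_eq] at h2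
  rw [lift_eq, h2]
  rfl

/-- the action on the 1408 points -/
noncomputable def φ0 : N0 →* Equiv.Perm (Fin 1408) := PresentedGroup.toGroup perm3_rel

/-- the five letters in the group -/
def g5 : ℕ → N0
  | 0 => n0z⁻¹
  | 1 => n0x⁻¹
  | 2 => n0x
  | 3 => n0y⁻¹
  | 4 => n0y
  | _ => 1

/-- the five tables -/
noncomputable def T5 (l c : ℕ) : ℕ := bif Nat.blt l 5 then T l c else c

theorem T5_of_lt {l : ℕ} (h : l < 5) (c : ℕ) : T5 l c = T l c := by
  have : Nat.blt l 5 = true := Nat.ble_eq.mpr h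
  simp [T5, this]

theorem T5_of_ge {l : ℕ} (h : 5 ≤ l) (c : ℕ) : T5 l c = c := by
  have : Nat.blt l 5 = false := by
    rw [Bool.eq_false_iff]; intro hb; simp [Nat.blt] at hb; omega
  simp [T5, this]

/-- the action through the five letters -/
noncomputable def rep5 : Rep g5 1408 T5 where
  φ := φ0
  spec l c := by
    match l with
    | 0 => rw [T5_of_lt (by omega)]; simp [g5, φ0, n0z, perm3, permPair, Equiv.Perm.inv_def]
    | 1 => rw [T5_of_lt (by omega)]; simp [g5, φ0, n0x, perm3, permPair, Equiv.Perm.inv_def]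
    | 2 => rw [T5_of_lt (by omega)]; simp [g5, φ0, n0x, perm3, permPair]
    | 3 => rw [T5_of_lt (by omega)]; simp [g5, φ0, n0y, perm3, permPair, Equiv.Perm.inv_def]
    | 4 => rw [T5_of_lt (by omega)]; simp [g5, φ0, n0y, perm3, permPair]
    | l + 5 => rw [T5_of_ge (by omega)]; simp [g5]

/-- the value of every letter -/
noncomputable def gen (l : ℕ) : N0 := evw g5 (Data.wordOf l)

end HN
end H77
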