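import Mathlib
import Cfsg.Agent.H77.HN.Checks

/-!
Deductions in several lists.
-/

set_option autoImplicit false

namespace H77
namespace HN
namespace Cert

theorem dedAll_append (D : Cert) : ∀ (as bs : List Ded) (K : Known),
    D.dedAll K (as ++ bs) = (D.dedAll K as).bind fun K' => D.dedAll K' bs := by
  intro as
  induction as with
  | nil => intro bs K; rfl
  | cons a as ih =>
    intro bs K
    simp only [List.cons_append, dedAll]
    cases D.dedOne K a with
    | none => rfl
    | some K' => exact ih bs K'

end Cert
end HN
end H77
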