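import Mathlib
import Cfsg.Agent.H77.HN.Group
import Cfsg.Agent.H77.HN.Data.All

/-!
The certificate over the group on x, y, z.
-/

set_option autoImplicit false
set_option maxRecDepth 100000

namespace H77
namespace HN

open Data (T cert wordOf numLetters)

theorem words_ok : allBelow (fun l => (wordOf l).all (fun a => Nat.blt a 5)) 0 277 = true := by
  decide +kernel

theorem low_ok : (List.range 5).all (fun l => decide (wordOf l = [l])) = true ∧
    wordOf 5 = [] ∧ wordOf 6 = [] := by decide +kernel

theorem pairs_ok : allBelow (fun j =>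
    decide (Data.iv (7 + 2 * j) = 8 + 2 * j ∧ Data.iv (8 + 2 * j) = 7 + 2 * j ∧
      wordOf (8 + 2 * j) = invw invP (wordOf (7 + 2 * j)))) 0 135 = true := by decide +kernel

theorem ivLow_ok : ((List.range 5).all fun l => decide (Data.iv l = invP l)) = true ∧
    Data.iv 5 = 5 ∧ Data.iv 6 = 5 := by decide +kernel

theorem tabId_ok : allBelow (fun c => Nat.beq (Nat.land (Nat.shiftRight Data.tabId (Nat.mul 11 c)) 2047) c)
    0 1408 = true := by decide +kernel

theorem T56_ok : allBelow (fun c => Nat.beq (T 5 c) c && Nat.beq (T 6 c) c) 0 1408 = true := by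
  decide +kernel

theorem wordOf_of_ge {l : ℕ} (h : 277 ≤ l) : wordOf l = [] := by
  have hlen : Data.wordTab.length = 277 := by decide +kernel
  rw [wordOf, List.getD_eq_default _ _ (by omega)]
  decide +kernel

theorem T_of_ge {l : ℕ} (h : 277 ≤ l) (c : Fin 1408) : T l c = c := by
  have h1 := allBelow_spec tabId_ok c (Nat.zero_le _) (by have := c.2; omega)
  rw [Nat.beq_eq] at h1
  have h2 : Nat.blt l 277 = false := by
    rw [Bool.eq_false_iff]; intro hb; simp [Nat.blt] at hb; omega
  have h3 : Data.tabSel l = Data.tabId := by rw [Data.tabSel, h2, cond_false]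
  rw [T, h3]
  exact h1

theorem iv_of_ge {l : ℕ} (h : 277 ≤ l) : Data.iv l = 5 := by
  have h2 : Nat.blt l 277 = false := by
    rw [Bool.eq_false_iff]; intro hb; simp [Nat.blt] at hb; omega
  rw [Data.iv, h2, cond_false]

theorem word_letters (l : ℕ) : ∀ a ∈ wordOf l, a < 5 := by
  intro a ha
  rcases Nat.lt_or_ge l 277 with h | h
  · have := allBelow_spec words_ok l (Nat.zero_le _) (by omega)
    simp only [List.all_eq_true] at this
    simpa [Nat.blt] using this a ha
  · rw [wordOf_of_ge h] at ha; simp at ha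

theorem run_T5 : ∀ (w : List ℕ), (∀ a ∈ w, a < 5) → ∀ c, run T w c = run T5 w c := by
  intro w
  induction w with
  | nil => intros; rfl
  | cons a w ih =>
    intro h c
    simp only [List.mem_cons, forall_eq_or_imp] at h
    rw [run, run, T5_of_lt h.1, ih h.2]

theorem g5_invP {a : ℕ} (h : a < 5) : g5 (invP a) = (g5 a)⁻¹ := by
  interval_cases a <;> simp [g5, invP]
  have hz : n0z * n0z = 1 := by rw [← sq]; exact n0_rel.z_two
  exact inv_eq_of_mul_eq_one_left hz

theorem gen_low {l : ℕ} (h : l < 5) : gen l = g5 l := by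
  have := List.all_eq_true.mp low_ok.1 l (List.mem_range.mpr h)
  rw [gen, decide_eq_true_eq.mp this, evw_singleton]

theorem gen_five : gen 5 = 1 ∧ gen 6 = 1 := by
  simp [gen, low_ok.2.1, low_ok.2.2]

theorem gen_of_ge {l : ℕ} (h : 277 ≤ l) : gen l = 1 := by simp [gen, wordOf_of_ge h]

theorem evw_g5_invw (w : List ℕ) (h : ∀ a ∈ w, a < 5) : evw g5 (invw invP w) = (evw g5 w)⁻¹ := by
  induction w with
  | nil => simp [invw]
  | cons a w ih =>
    simp only [List.mem_cons, forall_eq_or_imp] at h
    have := ih h.2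
    simp only [invw] at this
    simp [invw, this, g5_invP h.1]

theorem gen_pair {j : ℕ} (hj : j < 135) : gen (8 + 2 * j) = (gen (7 + 2 * j))⁻¹ := by
  have := allBelow_spec pairs_ok j (Nat.zero_le _) (by omega)
  simp only [decide_eq_true_eq] at this
  rw [gen, gen, this.2.2, evw_g5_invw _ (word_letters _)]

theorem gen_iv (l : ℕ) : gen (Data.iv l) = (gen l)⁻¹ := by
  rcases Nat.lt_or_ge l 277 with h | h
  swap
  · rw [iv_of_ge h, gen_five.1, gen_of_ge h, inv_one]
  rcases Nat.lt_or_ge l 5 with h5 | h5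
  · have := List.all_eq_true.mp ivLow_ok.1 l (List.mem_range.mpr h5)
    rw [decide_eq_true_eq.mp this, gen_low h5, gen_low (by interval_cases l <;> simp [invP]), g5_invP h5]
  rcases (show l = 5 ∨ l = 6 ∨ 7 ≤ l by omega) with rfl | rfl | h7
  · rw [ivLow_ok.2.1, gen_five.1, inv_one]
  · rw [ivLow_ok.2.2, gen_five.1, gen_five.2, inv_one]
  obtain ⟨j, hj, rfl | rfl⟩ : ∃ j < 135, l = 7 + 2 * j ∨ l = 8 + 2 * j :=
    ⟨(l - 7) / 2, by omega, by omega⟩
  · have := allBelow_spec pairs_ok j (Nat.zero_le _) (by omega)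
    simp only [decide_eq_true_eq] at this
    rw [this.1, gen_pair hj]
  · have := allBelow_spec pairs_ok j (Nat.zero_le _) (by omega)
    simp only [decide_eq_true_eq] at this
    rw [this.2.1, gen_pair hj, inv_inv]

theorem rep_spec (l : ℕ) (p : Fin 1408) : (φ0 (gen l) p : ℕ) = T l p := by
  rcases Nat.lt_or_ge l 277 with h | h
  swap
  · rw [gen_of_ge h, map_one, T_of_ge h]; rfl
  rcases Nat.lt_or_ge l 5 with h5 | h5
  · rw [gen_low h5, ← T5_of_lt h5]; exact rep5.spec l p
  rcases (show l = 5 ∨ l = 6 ∨ 7 ≤ l by omega) with rfl | rfl | h7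
  · have := allBelow_spec T56_ok p (Nat.zero_le _) (by have := p.2; omega)
    simp only [Bool.and_eq_true, Nat.beq_eq] at this
    rw [gen_five.1, map_one, this.1]; rfl
  · have := allBelow_spec T56_ok p (Nat.zero_le _) (by have := p.2; omega)
    simp only [Bool.and_eq_true, Nat.beq_eq] at this
    rw [gen_five.2, map_one, this.2]; rfl
  have hfwd : ∀ j < 135, ∀ q : Fin 1408, (φ0 (gen (7 + 2 * j)) q : ℕ) = T (7 + 2 * j) q := by
    intro j hj q
    have hl := allBelow_spec (Data.letters_all j hj).1 q (Nat.zero_le _) (by have := q.2; omega)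
    rw [Nat.beq_eq, runK_eq, run_T5 _ (word_letters _)] at hl
    rw [hl]
    exact rep5.evw_apply _ q
  obtain ⟨j, hj, rfl | rfl⟩ : ∃ j < 135, l = 7 + 2 * j ∨ l = 8 + 2 * j :=
    ⟨(l - 7) / 2, by omega, by omega⟩
  · exact hfwd j hj p
  · rw [gen_pair hj, map_inv]
    have e : φ0 (gen (7 + 2 * j)) ((φ0 (gen (7 + 2 * j)))⁻¹ p) = p := by
      rw [← Equiv.Perm.mul_apply, mul_inv_cancel]; rfl
    have hu := undo_spec (Data.letters_all j hj).2 ((φ0 (gen (7 + 2 * j)))⁻¹ p)
    rw [← hfwd j hj, e] at hu
    rw [show 8 + 2 * j = 7 + 2 * j + 1 by omega]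
    exact hu.1.symm

/-- the action through all letters -/
noncomputable def rep : Rep gen cert.np cert.T where
  φ := φ0
  spec := rep_spec

theorem n0_finite (hA : XYZBound) : Finite N0 ∧ Nat.card N0 ≤ 177408000 := by
  obtain ⟨h1, h2⟩ := hA.bound n0_rel
  rw [n0_closure] at h1 h2
  haveI := h1
  exact ⟨Finite.of_equiv _ Subgroup.topEquiv.toEquiv, by rwa [Subgroup.card_top] at h2⟩

/-- letters generating the stabiliser of 0 -/
def hLetters : List ℕ := [3, 4, 7, 8]

theorem chain_checks :
    levelCheck T [0, 1, 2, 3, 4] [] 0 Data.transWords 0 = true ∧ Data.transWords.length = 1408 ∧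
      hLetters.all (fun l => Nat.beq (T l 0) 0) = true ∧
      chainCheck T hLetters [] Data.levels = true ∧
      1408 * chainOrd Data.levels = 177408000 ∧
      Data.levels.all (fun p => Nat.blt p.1 1408) = true ∧
      0 :: Data.levels.map Prod.fst = Data.base := by decide +kernel

theorem exact_facts (hA : XYZBound) :
    Nat.card N0 = 177408000 ∧
      Subgroup.closure (gen '' {l | l ∈ hLetters}) = rep.fixPt ⟨0, by decide⟩ ∧
      rep.IsBase Data.base := by
  obtain ⟨h1, h2, h3, h4, h5, h6, h7⟩ := chain_checks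
  haveI := (n0_finite hA).1
  have hb : ∀ p ∈ Data.levels, p.1 < cert.np := fun p hp => by
    have := List.all_eq_true.mp h6 p hp
    simp only [Nat.blt, Nat.ble_eq] at this
    exact this
  obtain ⟨e1, e2, e3, -⟩ := exact_of_bound rep (n := cert.np) (by decide) h1 h2 h3 hb h4
    (n0_finite hA).2 h5
  exact ⟨e1, e2, h7 ▸ e3⟩

theorem ends_all : ∀ k < cert.ne, cert.src k < cert.r ∧ cert.dst k < cert.r := fun k hk =>
  decide_eq_true_eq.mp (List.all_eq_true.mp Data.ends k (List.mem_range.mpr hk))

theorem roots_all : ∀ k < cert.ne, cert.orbId (cert.src k) (cert.root k) = k ∧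
    cert.dep (cert.src k) (cert.root k) = 0 := fun k hk => by
  have := List.all_eq_true.mp Data.roots k (List.mem_range.mpr hk)
  simpa [Bool.and_eq_true, Nat.beq_eq] using this

theorem tree_all : ∀ i < cert.r, ∀ c < cert.np, cert.treeEntry i c = true := fun i hi c hc =>
  allBelow_spec (Data.trees_all i hi) c (Nat.zero_le _) (by
    have : cert.np = 1408 := rfl
    omega)

theorem conj_all : ∀ k < cert.ne,
    agree cert.T cert.B [cert.cl k] (cert.nw k ++ invw cert.iv (cert.mw k)) = true := fun k hk =>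
  List.all_eq_true.mp Data.conj k (List.mem_range.mpr hk)

/-- the certificate with all its hypotheses -/
noncomputable def setting (hA : XYZBound) : Setting N0 where
  D := cert
  gen := gen
  R := rep
  hiv := gen_iv
  hB := (exact_facts hA).2.2
  hnp := by decide
  ends := ends_all
  tree := tree_all
  roots := roots_all
  conj := conj_all
  schreier := Data.schreier_all

end HN
end H77
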