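import Mathlib
import Cfsg.Prelude.Def_Sporadic
import Cfsg.Agent.H77.HN.Setup

/-!
The presented Harada–Norton group acting on the cosets of the subgroup on x, y, z.
-/

set_option autoImplicit false
set_option maxRecDepth 100000

namespace H77
namespace HN

open Cfsg
open Data (cert)

/-- from the group on x, y, z to the presented group -/
theorem iota_rel : ∀ r ∈ {r | r ∈ rels3},
    FreeGroup.lift (fun a => pres (FreeGroup.of a.up)) r = 1 := by
  intro r hr
  simp only [Set.mem_ofPred_eq, rels3, List.mem_cons, List.not_mem_nil, or_false] at hr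
  have h := xyzRel
  simp only [Spor.HN.x, Spor.HN.y, Spor.HN.z] at h
  rcases hr with rfl | rfl | rfl | rfl | rfl | rfl | rfl | rfl | rfl | rfl <;>
    simp only [fx, fy, fz, map_mul, map_inv, map_pow, FreeGroup.lift_apply_of, Gen3.up]
  exacts [h.y_six, h.x2_y, h.comm_three, h.mixed_three, h.xy_eight, h.xyxy3_four, h.z_two,
    h.zx_two, h.z_comm, h.z_conj]

/-- the map into the presented group -/
noncomputable def iota : N0 →* Spor.HN := PresentedGroup.toGroup iota_rel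

theorem iota_x : iota n0x = pres Spor.HN.x := PresentedGroup.toGroup.of iota_rel
theorem iota_y : iota n0y = pres Spor.HN.y := PresentedGroup.toGroup.of iota_rel
theorem iota_z : iota n0z = pres Spor.HN.z := PresentedGroup.toGroup.of iota_rel

theorem t_rels : pres Spor.HN.t ^ 5 = 1 ∧
    (pres Spor.HN.x)⁻¹ * pres Spor.HN.t * pres Spor.HN.x * pres Spor.HN.t ^ 2 = 1 ∧
    Commute (pres Spor.HN.t) (pres Spor.HN.y) ∧
    (pres Spor.HN.z * pres Spor.HN.t) ^ 3 = 1 := by
  refine ⟨?_, ?_, ?_, ?_⟩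
  · rw [← map_pow]; exact pres_rel (by simp [Spor.HN.extra])
  · rw [← map_inv, ← map_mul, ← map_mul, ← map_pow, ← map_mul]
    exact pres_rel (by simp [Spor.HN.extra])
  · have h : pres (Spor.HN.t⁻¹ * Spor.HN.y⁻¹ * Spor.HN.t * Spor.HN.y) = 1 :=
      pres_rel (by simp [Spor.HN.extra])
    simp only [map_mul, map_inv] at h
    rw [Commute, SemiconjBy]
    calc pres Spor.HN.t * pres Spor.HN.y = pres Spor.HN.y * pres Spor.HN.t *
          ((pres Spor.HN.t)⁻¹ * (pres Spor.HN.y)⁻¹ * pres Spor.HN.t * pres Spor.HN.y) := by group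
      _ = _ := by rw [h, mul_one]
  · rw [← map_mul, ← map_pow]; exact pres_rel (by simp [Spor.HN.extra])

theorem conj_pow {G : Type*} [Group G] {x t : G} (h : x⁻¹ * t * x * t ^ 2 = 1) (n : ℕ) :
    x⁻¹ * t ^ n * x = ((t⁻¹) ^ 2) ^ n := by
  have h1 : x⁻¹ * t * x = (t⁻¹) ^ 2 := by rw [inv_pow]; exact eq_inv_of_mul_eq_one_left h
  rw [← h1]
  induction n with
  | zero => simp
  | succ n ih => rw [pow_succ, pow_succ, ← ih]; group

theorem hn_gen7 : gen 7 = n0x⁻¹ * n0y⁻¹ * n0x ∧ gen 8 = n0x⁻¹ * n0y * n0x := by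
  have h : Data.wordOf 7 = [2, 3, 1] ∧ Data.wordOf 8 = [2, 4, 1] := by decide +kernel
  refine ⟨?_, ?_⟩
  · rw [gen, h.1]; simp [g5]
  · rw [gen, h.2]; simp [g5]

theorem iota_mem_hsub (hA : XYZBound) {h : N0} (hh : h ∈ (setting hA).Hsub) :
    Commute (pres Spor.HN.t) (iota h) := by
  obtain ⟨h5, hx, hy, -⟩ := t_rels
  set T := pres Spor.HN.t
  set X := pres Spor.HN.x
  set Y := pres Spor.HN.y
  have hXT : Commute (X * T * X⁻¹) Y := by
    have e : X⁻¹ * T ^ 2 * X = T := by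
      rw [conj_pow hx, ← pow_mul, inv_pow]
      exact inv_eq_of_mul_eq_one_left (by rw [← pow_succ']; exact h5)
    have e2 : X * T * X⁻¹ = T ^ 2 := by
      calc X * T * X⁻¹ = X * (X⁻¹ * T ^ 2 * X) * X⁻¹ := by rw [e]
        _ = T ^ 2 := by group
    rw [e2]; exact hy.pow_left 2
  have hX : Commute T (X⁻¹ * Y * X) := by
    have h1 : T * (X⁻¹ * Y * X) = X⁻¹ * ((X * T * X⁻¹) * Y) * X := by group
    have h2 : X⁻¹ * Y * X * T = X⁻¹ * (Y * (X * T * X⁻¹)) * X := by group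
    show _ * _ = _ * _
    rw [h1, h2, hXT.eq]
  have key : Subgroup.closure (gen '' {l | l ∈ hLetters}) ≤
      (Subgroup.centralizer {T}).comap iota := by
    rw [Subgroup.closure_le]
    rintro _ ⟨l, hl, rfl⟩
    rw [SetLike.mem_coe, Subgroup.mem_comap, Subgroup.mem_centralizer_singleton_iff]
    simp only [hLetters, Set.mem_ofPred_eq, List.mem_cons, List.not_mem_nil, or_false] at hl
    rcases hl with rfl | rfl | rfl | rfl
    · rw [gen_low (by norm_num)]
      simp only [g5, map_inv, iota_y]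
      exact hy.inv_right.eq.symm
    · rw [gen_low (by norm_num)]
      simp only [g5, iota_y]
      exact hy.eq.symm
    · rw [hn_gen7.1]
      simp only [map_mul, map_inv, iota_x, iota_y]
      have := hX.inv_right
      rw [show (X⁻¹ * Y * X)⁻¹ = X⁻¹ * Y⁻¹ * X by group] at this
      exact this.eq.symm
    · rw [hn_gen7.2]
      simp only [map_mul, map_inv, iota_x, iota_y]
      exact hX.eq.symm
  rw [(exact_facts hA).2.1] at key
  exact (Subgroup.mem_centralizer_singleton_iff.mp (key hh)).symm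

/-- the value of a letter in the presented group -/
noncomputable def lettHN (l : ℕ) : Spor.HN :=
  if l = 5 then (pres Spor.HN.t)⁻¹ else if l = 6 then ((pres Spor.HN.t)⁻¹)⁻¹ else iota (gen l)

theorem evw_rotate {G : Type*} [Group G] {L : ℕ → G} {w : List ℕ} (h : evw L w = 1) (j : ℕ) :
    evw L (w.rotate j) = 1 := by
  rw [← List.rotate_mod, List.rotate_eq_drop_append_take_mod, evw_append]
  have h2 := h
  rw [← List.take_append_drop (j % w.length) w, evw_append, mul_eq_one_comm] at h2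
  simpa using h2

theorem ded_rels_hold : ∀ w ∈ dedRels, evw lettHN w = 1 := by
  obtain ⟨h5, hx, -, hz⟩ := t_rels
  have g : gen 0 = n0z⁻¹ ∧ gen 1 = n0x⁻¹ ∧ gen 2 = n0x := by
    refine ⟨?_, ?_, ?_⟩ <;> rw [gen_low (by norm_num)] <;> rfl
  have hz2 : (pres Spor.HN.z)⁻¹ = pres Spor.HN.z := by
    have := xyzRel.z_two; rw [sq] at this; exact inv_eq_of_mul_eq_one_left this
  set T := pres Spor.HN.t
  set X := pres Spor.HN.x
  set Z := pres Spor.HN.z
  have l0 : lettHN 0 = Z := by simp [lettHN, g.1, iota_z, hz2]; exact hz2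
  have l1 : lettHN 1 = X⁻¹ := by simp [lettHN, g.2.1, iota_x]; rfl
  have l2 : lettHN 2 = X := by simp [lettHN, g.2.2, iota_x]; rfl
  have l5 : lettHN 5 = T⁻¹ := by simp [lettHN]; rfl
  have l6 : lettHN 6 = T := by simp [lettHN]; rfl
  have r1 : X⁻¹ * T * X = T ^ 3 := by
    have e := conj_pow hx 1
    simp only [pow_one] at e
    rw [e, inv_pow]
    exact inv_eq_of_mul_eq_one_left (by rw [← pow_add]; exact h5)
  have rn : ∀ n : ℕ, X⁻¹ * T ^ n * X = T ^ (3 * n) := fun n => by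
    induction n with
    | zero => simp
    | succ n ih => rw [pow_succ, mul_add, pow_add, ← ih, mul_one, ← r1]; group
  have h15 : T ^ 15 = 1 := by rw [show 15 = 5 * 3 from rfl, pow_mul, h5, one_pow]
  have h10 : T ^ 10 = 1 := by rw [show 10 = 5 * 2 from rfl, pow_mul, h5, one_pow]
  have r2 : X⁻¹ * X⁻¹ * T * X * X = T ^ 4 := by
    calc X⁻¹ * X⁻¹ * T * X * X = X⁻¹ * (X⁻¹ * T * X) * X := by group
      _ = T ^ 9 := by rw [r1, rn]
      _ = T ^ 4 := by rw [show 9 = 5 + 4 from rfl, pow_add, h5, one_mul]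
  have r2' : X * X * T * X⁻¹ * X⁻¹ = T ^ 4 := by
    have h16 : X⁻¹ * X⁻¹ * T ^ 4 * X * X = T := by
      calc X⁻¹ * X⁻¹ * T ^ 4 * X * X = X⁻¹ * (X⁻¹ * T ^ 4 * X) * X := by group
        _ = T ^ 36 := by rw [rn, rn]
        _ = T := by rw [show 36 = 5 * 7 + 1 from rfl, pow_add, pow_mul, h5, one_pow, one_mul, pow_one]
    calc X * X * T * X⁻¹ * X⁻¹ = X * X * (X⁻¹ * X⁻¹ * T ^ 4 * X * X) * X⁻¹ * X⁻¹ := by rw [h16]
      _ = T ^ 4 := by group
  intro w hw
  simp only [dedRels, List.mem_append, List.mem_cons, List.not_mem_nil, or_false, List.mem_flatMap,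
    List.mem_map] at hw
  rcases hw with (rfl | rfl) | ⟨u, hu, j, -, rfl⟩
  · simp [l5, l6]
  · simp [l5, l6]
  refine evw_rotate ?_ j
  rcases hu with rfl | rfl | rfl | rfl | rfl | rfl | rfl | rfl | rfl | rfl <;>
    simp only [evw_cons, evw_nil, one_mul, l0, l1, l2, l5, l6]
  · rw [← inv_eq_one]; simp only [mul_inv_rev, inv_inv]; simpa [pow_succ, mul_assoc] using h5
  · calc T⁻¹ * T⁻¹ * X⁻¹ * T⁻¹ * X = T⁻¹ * T⁻¹ * (X⁻¹ * T * X)⁻¹ := by group
      _ = (T ^ 5)⁻¹ := by rw [r1]; group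
      _ = 1 := by rw [h5, inv_one]
  · calc T * T * X⁻¹ * T * X = T * T * (X⁻¹ * T * X) := by group
      _ = T ^ 5 := by rw [r1]; group
      _ = 1 := h5
  · calc T⁻¹ * X⁻¹ * X⁻¹ * T⁻¹ * X * X = T⁻¹ * (X⁻¹ * X⁻¹ * T * X * X)⁻¹ := by simp only [mul_inv_rev, inv_inv, mul_assoc]
      _ = (T ^ 5)⁻¹ := by rw [r2]; group
      _ = 1 := by rw [h5, inv_one]
  · calc T⁻¹ * X * X * T⁻¹ * X⁻¹ * X⁻¹ = T⁻¹ * (X * X * T * X⁻¹ * X⁻¹)⁻¹ := by simp only [mul_inv_rev, inv_inv, mul_assoc]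
      _ = (T ^ 5)⁻¹ := by rw [r2']; group
      _ = 1 := by rw [h5, inv_one]
  · calc T * X⁻¹ * X⁻¹ * T * X * X = T * (X⁻¹ * X⁻¹ * T * X * X) := by group
      _ = T ^ 5 := by rw [r2]; group
      _ = 1 := h5
  · calc T * X * X * T * X⁻¹ * X⁻¹ = T * (X * X * T * X⁻¹ * X⁻¹) := by group
      _ = T ^ 5 := by rw [r2']; group
      _ = 1 := h5
  · simpa [pow_succ, mul_assoc] using h5
  · have e : (Z * T) ^ 3 = Z * T * Z * T * Z * T := by simp [pow_succ, mul_assoc]
    rw [hz] at e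
    calc T⁻¹ * Z * T⁻¹ * Z * T⁻¹ * Z = (Z⁻¹ * T * Z⁻¹ * T * Z⁻¹ * T)⁻¹ := by group
      _ = 1 := by rw [hz2, ← e, inv_one]
  · have e : (Z * T) ^ 3 = Z * T * Z * T * Z * T := by simp [pow_succ, mul_assoc]
    rw [hz] at e
    calc T * Z * T * Z * T * Z = Z⁻¹ * (Z * T * Z * T * Z * T) * Z := by group
      _ = 1 := by rw [← e]; group

theorem gen_top : Subgroup.closure (insert (pres Spor.HN.t)⁻¹ (Set.range iota)) = ⊤ := by
  rw [eq_top_iff, ← PresentedGroup.closure_range_of, Subgroup.closure_le]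
  rintro _ ⟨g, rfl⟩
  cases g
  · exact Subgroup.subset_closure (Set.mem_insert_of_mem _ ⟨n0x, iota_x⟩)
  · exact Subgroup.subset_closure (Set.mem_insert_of_mem _ ⟨n0y, iota_y⟩)
  · exact Subgroup.subset_closure (Set.mem_insert_of_mem _ ⟨n0z, iota_z⟩)
  · have h := Subgroup.inv_mem _ (Subgroup.subset_closure (Set.mem_insert (pres Spor.HN.t)⁻¹ (Set.range iota)))
    rw [inv_inv] at h
    exact h

/-- the presented group over the group on x, y, z -/
noncomputable def amalgam (hA : XYZBound) : Amalgam (setting hA) Spor.HN where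
  ι := iota
  gt := (pres Spor.HN.t)⁻¹
  comm _h hh := (iota_mem_hsub hA hh).inv_left.eq
  gen_top := gen_top
  rels := ded_rels_hold

end HN
end H77
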