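import Mathlib
import Cfsg.Agent.H77.HN.Main

/-!
The action of the presented Harada–Norton group on the points, and the index.
-/

set_option autoImplicit false
set_option maxRecDepth 100000

namespace H77
namespace HN

open Cfsg
open Data (cert)

variable (hA : XYZBound)

theorem n0_fin (hA : XYZBound) : Finite N0 := (n0_finite hA).1

/-- translations as permutations of the points -/
noncomputable def actPerm : N0 →* Equiv.Perm (setting hA).Pts where
  toFun g :=
    { toFun := (setting hA).act g
      invFun := (setting hA).act g⁻¹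
      left_inv := fun x => by rw [← Setting.act_mul, inv_mul_cancel, Setting.act_one]
      right_inv := fun x => by rw [← Setting.act_mul, mul_inv_cancel, Setting.act_one] }
  map_one' := Equiv.ext fun x => (setting hA).act_one x
  map_mul' g h := Equiv.ext fun x => (setting hA).act_mul g h x

theorem actPerm_apply (g : N0) (x : (setting hA).Pts) : actPerm hA g x = (setting hA).act g x := rfl

theorem r_pos : 0 < (setting hA).D.r := show 0 < cert.r from Nat.succ_pos 8

theorem hsub_closed {l : ℕ} (hl : l ∈ hLetters) : gen l ∈ (setting hA).Hsub := by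
  exact (exact_facts hA).2.1.le (Subgroup.subset_closure ⟨l, hl, rfl⟩)

theorem hsub_eq : (setting hA).Hsub = Subgroup.closure (gen '' {l | l ∈ hLetters}) :=
  (exact_facts hA).2.1.symm

/-- five steps of the further generator return -/
theorem tau_five (x : (setting hA).Pts) :
    (setting hA).tau ((setting hA).tau ((setting hA).tau ((setting hA).tau ((setting hA).tau x)))) = x := by
  obtain ⟨k, hk, h, hh, rfl⟩ := (setting hA).exists_form x
  obtain ⟨st, s, hl⟩ := Data.loopA_all k hk
  have := (setting hA).loop_fix (r_pos hA) ((setting hA).ends k hk).1 (by simp) hl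
  rw [Setting.node_eq _ _ ((setting hA).ends k hk).1] at this
  simp only [runF, Setting.F, if_true] at this
  rw [← Setting.act_pt, Setting.tau_act _ hh, Setting.tau_act _ hh, Setting.tau_act _ hh,
    Setting.tau_act _ hh, Setting.tau_act _ hh]
  exact congrArg _ this

/-- the further generator as a permutation -/
noncomputable def tauPerm : Equiv.Perm (setting hA).Pts where
  toFun := (setting hA).tau
  invFun x := (setting hA).tau ((setting hA).tau ((setting hA).tau ((setting hA).tau x)))
  left_inv x := tau_five hA x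
  right_inv x := tau_five hA x

theorem tauPerm_apply (x : (setting hA).Pts) : tauPerm hA x = (setting hA).tau x := rfl

theorem tau_inj : Function.Injective (setting hA).tau := (tauPerm hA).injective

/-- the letters as permutations -/
noncomputable def lettPts (l : ℕ) : Equiv.Perm (setting hA).Pts :=
  if l = 5 then tauPerm hA else actPerm hA (gen l)

theorem F_eq : (setting hA).F = fun l => ⇑(lettPts hA l) := by
  funext l x
  simp only [Setting.F, lettPts]
  split <;> rfl

theorem loop_perm {i : ℕ} (hi : i < (setting hA).D.r) {w s rel : List ℕ} {st : List Step}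
    (h6 : 6 ∉ rel) (h : cert.loopOK i w st rel s = true) :
    evw (lettPts hA) rel ((setting hA).pt i hi (evw gen w)) = (setting hA).pt i hi (evw gen w) := by
  have := (setting hA).loop_fix (r_pos hA) hi h6 h
  rwa [F_eq, runF_perm, Setting.node_eq _ _ hi] at this

theorem tauPerm_five : tauPerm hA ^ 5 = 1 := Equiv.ext fun x => by
  simpa [pow_succ, tauPerm_apply] using tau_five hA x

theorem tauPerm_comm {h : N0} (hh : h ∈ (setting hA).Hsub) :
    Commute (tauPerm hA) (actPerm hA h) :=
  Equiv.ext fun x => (setting hA).tau_act hh x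

theorem gen012 : gen 0 = n0z⁻¹ ∧ gen 1 = n0x⁻¹ ∧ gen 2 = n0x ∧ gen 3 = n0y⁻¹ := by
  refine ⟨?_, ?_, ?_, ?_⟩ <;> rw [gen_low (by norm_num)] <;> rfl

theorem conj_checks :
    hLetters.all (fun l => Nat.beq (runK cert.T [1, l, 2] 0) 0) = true := by decide +kernel

theorem conj_mem_hsub {h : N0} (hh : h ∈ (setting hA).Hsub) :
    n0x * h * n0x⁻¹ ∈ (setting hA).Hsub := by
  have key : Subgroup.closure (gen '' {l | l ∈ hLetters}) ≤
      ((setting hA).Hsub).comap (MulAut.conj n0x).toMonoidHom := by
    rw [Subgroup.closure_le]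
    rintro _ ⟨l, hl, rfl⟩
    have := List.all_eq_true.mp conj_checks l hl
    rw [Nat.beq_eq, runK_eq] at this
    have h2 := (setting hA).e_mem_Hsub.mpr this
    show n0x * gen l * n0x⁻¹ ∈ (setting hA).Hsub
    have e : (setting hA).e [1, l, 2] = gen 2 * gen l * gen 1 := by
      show evw gen [1, l, 2] = _
      simp
    rwa [e, gen012.2.1, gen012.2.2.1] at h2
  exact key ((hsub_eq hA).le hh)

theorem rel_x : evw (lettPts hA) [2, 5, 1, 5, 5] = 1 := by
  refine Equiv.ext fun p => ?_
  obtain ⟨k, hk, h, hh, rfl⟩ := (setting hA).exists_form p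
  obtain ⟨st, s, hl⟩ := Data.loopX_all k hk
  have hfix := loop_perm hA ((setting hA).ends k hk).1 (by simp) hl
  rw [← Setting.act_pt, ← actPerm_apply]
  have hh' := conj_mem_hsub hA hh
  simp only [evw_cons, evw_nil, one_mul, lettPts, if_true, if_neg (show (2 : ℕ) ≠ 5 by norm_num),
    if_neg (show (1 : ℕ) ≠ 5 by norm_num), gen012.2.1, gen012.2.2.1] at hfix ⊢
  have c1 := tauPerm_comm hA hh
  have c2 := tauPerm_comm hA hh'
  have e1 : actPerm hA n0x * actPerm hA h = actPerm hA (n0x * h * n0x⁻¹) * actPerm hA n0x := by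
    rw [← map_mul, ← map_mul, inv_mul_cancel_right]
  have e2 : actPerm hA n0x⁻¹ * actPerm hA (n0x * h * n0x⁻¹) = actPerm hA h * actPerm hA n0x⁻¹ := by
    rw [← map_mul, ← map_mul]; congr 1; group
  set τ := tauPerm hA
  set X := actPerm hA n0x
  set X' := actPerm hA n0x⁻¹
  set H := actPerm hA h
  set H' := actPerm hA (n0x * h * n0x⁻¹)
  have e : τ * τ * X' * τ * X * H = H * (τ * τ * X' * τ * X) := by
    calc τ * τ * X' * τ * X * H = τ * τ * X' * τ * (X * H) := by group
      _ = τ * τ * X' * (τ * H') * X := by rw [e1]; group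
      _ = τ * τ * (X' * H') * τ * X := by rw [c2.eq]; group
      _ = τ * (τ * H) * X' * τ * X := by rw [e2]; group
      _ = τ * (H * τ) * X' * τ * X := by rw [c1.eq]
      _ = τ * H * τ * X' * τ * X := by group
      _ = H * τ * τ * X' * τ * X := by rw [c1.eq]
      _ = H * (τ * τ * X' * τ * X) := by group
  show (τ * τ * X' * τ * X) (H _) = _
  rw [← Equiv.Perm.mul_apply, e, Equiv.Perm.mul_apply]
  exact congrArg (fun q => H q) hfix

theorem qpts_checks : (Data.qpts.map Prod.fst).Nodup ∧ (cert.T 0 0, 0) ∈ Data.qpts ∧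
    unpack 0 = [] := by decide +kernel

theorem qpts_mem {p : ℕ × ℕ} (hp : p ∈ Data.qpts) :
    run cert.T (unpack p.2) (cert.T 0 0) = p.1 ∧ ∀ l ∈ unpack p.2, l ∈ hLetters := by
  have := List.all_eq_true.mp Data.cent p hp
  simp only [Bool.and_eq_true, Nat.beq_eq, runK_eq, List.all_eq_true, List.contains_iff_mem] at this
  exact this.1

theorem cent_one (hA : XYZBound) {p : ℕ × ℕ} (hp : p ∈ Data.qpts) {l : ℕ} (hl : l ∈ hLetters) :
    ∃ q ∈ Data.qpts, q.1 = cert.T l p.1 ∧
      Commute (gen 0) ((evw gen (unpack q.2))⁻¹ * gen l * evw gen (unpack p.2)) := by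
  have := List.all_eq_true.mp Data.cent p hp
  simp only [Bool.and_eq_true, List.all_eq_true] at this
  have h2 := this.2 l hl
  rcases hf : Data.qpts.find? (fun q => Nat.beq q.1 (cert.T l p.1)) with _ | q
  · rw [hf] at h2; exact absurd h2 (by simp)
  rw [hf, Option.any_some] at h2
  have hq := List.find?_some hf
  rw [Nat.beq_eq] at hq
  refine ⟨q, List.mem_of_find?_eq_some hf, hq, ?_⟩
  have := (setting hA).eq_of_agree h2
  change evw gen _ = evw gen _ at this
  simp only [evw_cons, evw_append, evw_nil, one_mul] at this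
  rw [show cert.iv = Data.iv from rfl, evw_invw gen_iv] at this
  exact this.symm

theorem cent_all {g : N0} (hg : g ∈ (setting hA).Hsub) : ∀ p ∈ Data.qpts, ∃ q ∈ Data.qpts,
    (∀ a : Fin (setting hA).D.np, (a : ℕ) = p.1 → ((setting hA).mv g a : ℕ) = q.1) ∧
      Commute (gen 0) ((evw gen (unpack q.2))⁻¹ * g * evw gen (unpack p.2)) := by
  rw [hsub_eq] at hg
  have hgen : ∀ l ∈ hLetters, ∀ p ∈ Data.qpts, ∃ q ∈ Data.qpts,
      (∀ a : Fin (setting hA).D.np, (a : ℕ) = p.1 → ((setting hA).mv (gen l) a : ℕ) = q.1) ∧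
        Commute (gen 0) ((evw gen (unpack q.2))⁻¹ * gen l * evw gen (unpack p.2)) := by
    intro l hl p hp
    obtain ⟨q, hq, hq1, hc⟩ := cent_one hA hp hl
    exact ⟨q, hq, fun a ha => by rw [hq1, ← ha]; exact rep_spec l a, hc⟩
  induction hg using Subgroup.closure_induction'' with
  | mem x hx => obtain ⟨l, hl, rfl⟩ := hx; exact hgen l hl
  | inv_mem x hx =>
    obtain ⟨l, hl, rfl⟩ := hx
    rw [← gen_iv]
    refine hgen _ ?_
    simp only [hLetters, Set.mem_ofPred_eq, List.mem_cons, List.not_mem_nil, or_false] at hl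
    rcases hl with rfl | rfl | rfl | rfl <;> decide +kernel
  | one => exact fun p hp => ⟨p, hp, fun a ha => by simp [ha], by simp⟩
  | mul x y _ _ hx hy =>
    intro p hp
    obtain ⟨q, hq, hq1, hc1⟩ := hy p hp
    obtain ⟨r, hr, hr1, hc2⟩ := hx q hq
    refine ⟨r, hr, fun a ha => ?_, ?_⟩
    · rw [Setting.mv_mul]; exact hr1 _ (hq1 a ha)
    · have := hc2.mul_right hc1
      rw [show (evw gen (unpack r.2))⁻¹ * (x * y) * evw gen (unpack p.2) =
        ((evw gen (unpack r.2))⁻¹ * x * evw gen (unpack q.2)) *
          ((evw gen (unpack q.2))⁻¹ * y * evw gen (unpack p.2)) by group]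
      exact this

theorem rel_z : evw (lettPts hA) [0, 5, 0, 5, 0, 5] = 1 := by
  refine Equiv.ext fun p => ?_
  obtain ⟨k, hk, h, hh, rfl⟩ := (setting hA).exists_form p
  obtain ⟨hnd, hq0, hu0⟩ := qpts_checks
  obtain ⟨q, hq, hq1, hc⟩ := cent_all hA ((setting hA).Hsub.inv_mem hh) _ hq0
  simp only [hu0, evw_nil, mul_one] at hc
  set s := evw gen (unpack q.2) with hs
  have hsH : s ∈ (setting hA).Hsub := by
    rw [hsub_eq]
    exact evw_mem fun l hl => Subgroup.subset_closure ⟨l, (qpts_mem hq).2 l hl, rfl⟩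
  have hcz : Commute (gen 0) (h * s) := by
    have := hc.inv_right
    rwa [mul_inv_rev, inv_inv, inv_inv] at this
  have hchs : Commute (actPerm hA (gen 0)) (actPerm hA (h * s)) := hcz.map _
  have hcts := tauPerm_comm hA ((setting hA).Hsub.mul_mem hh hsH)
  obtain ⟨st, w, hl⟩ := Data.loopZ_halves k hk q hq
  have hfix := loop_perm hA ((setting hA).ends k hk).1 (by simp) hl
  rw [evw_append, show cert.iv = Data.iv from rfl, evw_invw gen_iv, ← hs] at hfix
  have hp : (setting hA).pt _ ((setting hA).ends k hk).1 (h * (setting hA).e ((setting hA).D.nw k)) =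
      actPerm hA (h * s) ((setting hA).pt _ ((setting hA).ends k hk).1 (s⁻¹ * evw gen (cert.nw k))) := by
    rw [actPerm_apply, Setting.act_pt]
    congr 1
    rw [mul_assoc, mul_inv_cancel_left]
    rfl
  rw [hp]
  simp only [evw_cons, evw_nil, one_mul, lettPts, if_true, if_neg (show (0 : ℕ) ≠ 5 by norm_num)] at hfix ⊢
  have hc3 : Commute (tauPerm hA * actPerm hA (gen 0) * tauPerm hA * actPerm hA (gen 0) *
      tauPerm hA * actPerm hA (gen 0)) (actPerm hA (h * s)) :=
    ((((hcts.mul_left hchs).mul_left hcts).mul_left hchs).mul_left hcts).mul_left hchs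
  rw [← Equiv.Perm.mul_apply, hc3.eq, Equiv.Perm.mul_apply]
  exact congrArg _ hfix

/-- the images of the generators -/
noncomputable def genPerm : Spor.HN.Gen → Equiv.Perm (setting hA).Pts
  | .x => actPerm hA n0x
  | .y => actPerm hA n0y
  | .z => actPerm hA n0z
  | .t => (tauPerm hA)⁻¹

theorem psi_rel : ∀ r ∈ Spor.coxRelators Spor.HN.edges ∪ {r | r ∈ Spor.HN.extra},
    FreeGroup.lift (genPerm hA) r = 1 := by
  intro r hr
  rcases hr with hr | hr
  · obtain ⟨a, ha, -⟩ := hr
    simp [Spor.coxNodes, Spor.HN.edges] at ha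
  have hx := n0_rel
  have hf : ∀ {e : N0}, e = 1 → actPerm hA e = 1 := fun h => by rw [h, map_one]
  have k := fun (e : N0) (h : e = 1) => hf h
  simp only [Set.mem_ofPred_eq, Spor.HN.extra, List.mem_cons, List.not_mem_nil, or_false] at hr
  rcases hr with rfl | rfl | rfl | rfl | rfl | rfl | rfl | rfl | rfl | rfl | rfl | rfl | rfl | rfl <;>
    simp only [Spor.HN.x, Spor.HN.y, Spor.HN.z, Spor.HN.t, map_mul, map_inv, map_pow,
      FreeGroup.lift_apply_of, genPerm]
  · simpa using k _ hx.y_six
  · simpa using k _ hx.x2_y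
  · simpa using k _ hx.comm_three
  · simpa using k _ hx.mixed_three
  · simpa using k _ hx.xy_eight
  · simpa using k _ hx.xyxy3_four
  · simpa using k _ hx.z_two
  · simpa using k _ hx.zx_two
  · simpa using k _ hx.z_comm
  · simpa using k _ hx.z_conj
  · rw [inv_pow, tauPerm_five, inv_one]
  · have := rel_x hA
    simp only [evw_cons, evw_nil, one_mul, lettPts, if_true, if_neg (show (2 : ℕ) ≠ 5 by norm_num),
      if_neg (show (1 : ℕ) ≠ 5 by norm_num), gen012.2.1, gen012.2.2.1, map_inv] at this
    rw [← inv_eq_one, ← this, sq]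
    simp only [mul_inv_rev, inv_inv, mul_assoc]
  · have hy : n0y⁻¹ ∈ (setting hA).Hsub := gen012.2.2.2 ▸ hsub_closed hA (by simp [hLetters])
    have := tauPerm_comm hA hy
    rw [map_inv] at this
    rw [inv_inv, this.eq]
    group
  · have := rel_z hA
    simp only [evw_cons, evw_nil, one_mul, lettPts, if_true, if_neg (show (0 : ℕ) ≠ 5 by norm_num),
      gen012.1, map_inv] at this
    rw [← inv_eq_one, ← this]
    simp only [pow_succ, pow_zero, one_mul, mul_inv_rev, inv_inv, mul_assoc]

/-- the presented group acting on the points -/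
noncomputable def psi : Spor.HN →* Equiv.Perm (setting hA).Pts := PresentedGroup.toGroup (psi_rel hA)

theorem psi_iota (g : N0) : psi hA (iota g) = actPerm hA g := by
  have : (psi hA).comp iota = actPerm hA := by
    refine PresentedGroup.ext fun a => ?_
    cases a <;> simp [iota, psi, genPerm, Gen3.up, n0x, n0y, n0z, PresentedGroup.toGroup.of, pres,
      ← PresentedGroup.of.eq_def]
  exact DFunLike.congr_fun this g

theorem psi_t : psi hA (amalgam hA).gt = tauPerm hA := by
  show psi hA (PresentedGroup.of Spor.HN.Gen.t)⁻¹ = _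
  rw [map_inv, psi, PresentedGroup.toGroup.of]
  exact inv_inv _

theorem stab_zero : (setting hA).stab 0 = ⊤ := by
  have h0 : ∀ l : ℕ, l < 5 → l ∈ cert.sg 0 := by decide +kernel
  rw [eq_top_iff, ← PresentedGroup.closure_range_of, Subgroup.closure_le]
  have hm : ∀ l < 5, g5 l ∈ (setting hA).stab 0 := fun l hl =>
    gen_low hl ▸ Subgroup.subset_closure ⟨l, h0 l hl, rfl⟩
  rintro _ ⟨a, rfl⟩
  cases a
  · exact hm 2 (by norm_num)
  · exact hm 4 (by norm_num)
  · exact (inv_mem_iff).mp (hm 0 (by norm_num))

theorem valid_done : ∃ K, (amalgam hA).Valid Data.treeList K ∧ Amalgam.done (setting hA).D K = true := by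
  refine ⟨Data.known8, (amalgam hA).dedAll_sound (fun l hl => ?_) _
    ((amalgam hA).init_valid _ Data.shape_ok) Data.deds_ok, Data.done_ok⟩
  exact decide_eq_true_eq.mp (List.all_eq_true.mp ivLow_ok.1 l (List.mem_range.mpr hl))

instance ptsFinite [Finite N0] : Finite (setting hA).Pts :=
  inferInstanceAs (Finite (Σ i : Fin cert.r, N0 ⧸ (setting hA).stab i))

theorem toCos_bijective : Function.Bijective ((amalgam hA).toCos Data.treeList) := by
  haveI := n0_fin hA
  obtain ⟨K, hK, hd⟩ := valid_done hA
  refine (amalgam hA).bijective hK hd (r_pos hA) Data.shape_ok ?_ (stab_zero hA) (psi hA)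
    (fun n x => ?_) (fun x => ?_)
  · show cert.r = _; decide +kernel
  · show psi hA (iota n) x = _
    rw [psi_iota]; rfl
  · rw [psi_t]; rfl

theorem card_stab_eq (i : Fin 9) : Nat.card ((setting hA).stab i) = Data.ordTab.getD i 0 := by
  haveI := n0_fin hA
  refine (setting hA).card_stab (tau_inj hA) (exact_facts hA).1 (stab_zero hA) Data.shape_ok
    Data.ord_ok i ?_
  have : Data.treeList.length = 8 := by decide +kernel
  omega

/-- sizes of the orbits of the subgroup on its cosets -/
def orbSizes : List ℕ := [1, 1408, 35200, 2200, 123200, 354816, 739200, 277200, 5775]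

theorem sizes_ok : ((List.range 9).all fun i =>
    Nat.beq (orbSizes.getD i 0 * Data.ordTab.getD i 0) 177408000) = true ∧ orbSizes.sum = 1539000 := by
  decide +kernel

theorem card_orbit (i : Fin 9) : Nat.card (N0 ⧸ (setting hA).stab i) = orbSizes.getD i 0 := by
  haveI := n0_fin hA
  have h := Subgroup.card_eq_card_quotient_mul_card_subgroup ((setting hA).stab i)
  rw [(exact_facts hA).1, card_stab_eq hA i] at h
  have h2 := List.all_eq_true.mp sizes_ok.1 i (List.mem_range.mpr i.2)
  rw [Nat.beq_eq, h] at h2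
  refine (Nat.eq_of_mul_eq_mul_right (Nat.pos_of_ne_zero fun h0 => ?_) h2).symm
  rw [h0, mul_zero] at h
  exact absurd h (by norm_num)

theorem index_range (hA : XYZBound) : iota.range.index = 1539000 := by
  haveI := n0_fin hA
  have h := (Nat.card_congr (Equiv.ofBijective _ (toCos_bijective hA))).symm
  show Nat.card (amalgam hA).Cos = _
  rw [h]
  show Nat.card (Σ i : Fin 9, N0 ⧸ (setting hA).stab i) = _
  rw [Nat.card_sigma, Finset.sum_congr rfl fun i _ => card_orbit hA i, ← sizes_ok.2]
  decide +kernel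

theorem range_eq : iota.range =
    (Subgroup.closure ({Spor.HN.x, Spor.HN.y, Spor.HN.z} : Set (FreeGroup Spor.HN.Gen))).map pres := by
  rw [MonoidHom.range_eq_map, ← n0_closure, MonoidHom.map_closure, MonoidHom.map_closure]
  simp [Set.image_insert_eq, iota_x, iota_y, iota_z]

end HN
end H77
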