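import Mathlib
import Cfsg.Agent.H77.HN.Index

/-!
The presented Harada–Norton group acts faithfully on the cosets of the subgroup on x, y, z: its
order, and the orbits of that subgroup.
-/

set_option autoImplicit false
set_option maxRecDepth 100000

namespace H77
namespace HN

open Cfsg
open Data (cert)

variable (hA : XYZBound)

/-- the base point -/
noncomputable def basePt : (setting hA).Pts := (setting hA).pt 0 (r_pos hA) 1

theorem toCos_base : (amalgam hA).toCos Data.treeList (basePt hA) = QuotientGroup.mk 1 := by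
  obtain ⟨K, hK, hd⟩ := valid_done hA
  rw [basePt, (amalgam hA).toCos_pt hK hd, map_one, one_smul, Amalgam.q_zero]

theorem toCos_psi (g : Spor.HN) (x : (setting hA).Pts) :
    (amalgam hA).toCos Data.treeList (psi hA g x) = g • (amalgam hA).toCos Data.treeList x := by
  have := n0_fin hA
  obtain ⟨K, hK, hd⟩ := valid_done hA
  have hg : g ∈ Subgroup.closure (insert (amalgam hA).gt (Set.range (amalgam hA).ι)) :=
    (amalgam hA).gen_top ▸ Subgroup.mem_top g
  induction hg using Subgroup.closure_induction generalizing x with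
  | mem a ha =>
    rcases ha with rfl | ⟨n, rfl⟩
    · rw [psi_t]
      exact (amalgam hA).toCos_tau hK hd x
    · show (amalgam hA).toCos _ (psi hA (iota n) x) = iota n • _
      rw [psi_iota]
      exact (amalgam hA).toCos_act hK hd n x
  | one => rw [map_one, one_smul]; rfl
  | mul a b _ _ ha hb => rw [map_mul, Equiv.Perm.mul_apply, ha, hb, mul_smul]
  | inv a _ ha =>
    rw [eq_inv_smul_iff, ← ha, map_inv, ← Equiv.Perm.mul_apply, mul_inv_cancel]
    rfl

theorem sgOne_fix : (cert.sg 1).all (fun l => Nat.beq (cert.T l 0) 0) = true := by decide +kernel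

theorem stab_one_le : (setting hA).stab 1 ≤ (setting hA).Hsub := by
  rw [Setting.stab, Subgroup.closure_le]
  rintro _ ⟨l, hl, rfl⟩
  have := List.all_eq_true.mp sgOne_fix l hl
  rw [Nat.beq_eq] at this
  exact Fin.ext ((rep_spec l _).trans this)

theorem actPerm_injective : Function.Injective (actPerm hA) := by
  rw [← MonoidHom.ker_eq_bot_iff, eq_bot_iff]
  intro g hg
  rw [Subgroup.mem_bot]
  refine (setting hA).hB.2 g fun p _ => ?_
  have h1 : 1 < (setting hA).D.r := show 1 < cert.r from Nat.succ_lt_succ (Nat.succ_pos 7)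
  let a : N0 := (setting hA).tr 0 p * ((setting hA).e ((setting hA).D.nw ((setting hA).D.orbId 0 p)))⁻¹
  have ha : (setting hA).mv a ⟨0, (setting hA).hnp⟩ = p := by
    rw [Setting.mv_mul]
    exact (setting hA).tr_root (r_pos hA) p
  have hfix : (setting hA).act g ((setting hA).pt 1 h1 a) = (setting hA).pt 1 h1 a := by
    rw [← actPerm_apply, MonoidHom.mem_ker.mp hg]; rfl
  have hmem := stab_one_le hA (((setting hA).act_pt_fix h1).mp hfix)
  have h2 : (setting hA).mv (a⁻¹ * g * a) ⟨0, (setting hA).hnp⟩ = ⟨0, (setting hA).hnp⟩ := hmem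
  rw [Setting.mv_mul, Setting.mv_mul, ha] at h2
  show (setting hA).mv g p = p
  conv_rhs => rw [← ha, ← h2, Setting.mv_mv_inv]

theorem iota_injective (hA : XYZBound) : Function.Injective iota := fun a b h =>
  actPerm_injective hA (by rw [← psi_iota, h, psi_iota])

theorem psi_injective : Function.Injective (psi hA) := by
  rw [← MonoidHom.ker_eq_bot_iff, eq_bot_iff]
  intro g hg
  have h1 : g • (QuotientGroup.mk 1 : Spor.HN ⧸ iota.range) = QuotientGroup.mk 1 := by
    have e := toCos_psi hA g (basePt hA)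
    rw [MonoidHom.mem_ker.mp hg, Equiv.Perm.one_apply] at e
    exact (congrArg (g • ·) (toCos_base hA)).symm.trans (e.symm.trans (toCos_base hA))
  rw [MulAction.Quotient.smul_mk, QuotientGroup.eq, smul_eq_mul, mul_one, mul_one, inv_mem_iff] at h1
  obtain ⟨n, rfl⟩ := h1
  rw [MonoidHom.mem_ker, psi_iota] at hg
  rw [Subgroup.mem_bot, actPerm_injective hA (hg.trans (map_one _).symm), map_one]

theorem normalCore_eq_bot (hA : XYZBound) : iota.range.normalCore = ⊥ := by
  rw [eq_bot_iff]
  intro g hg
  refine (psi_injective hA (Equiv.ext fun x => (toCos_bijective hA).1 ?_) : g = 1)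
  rw [toCos_psi, map_one]
  show g • (amalgam hA).toCos Data.treeList x = (amalgam hA).toCos Data.treeList x
  obtain ⟨a, ha⟩ := QuotientGroup.mk_surjective ((amalgam hA).toCos Data.treeList x)
  rw [← ha, MulAction.Quotient.smul_mk, QuotientGroup.eq, smul_eq_mul, mul_inv_rev]
  have h2 : a⁻¹ * g * a ∈ iota.range := by
    have := hg a⁻¹
    rwa [inv_inv] at this
  have := iota.range.inv_mem h2
  rwa [mul_inv_rev, mul_inv_rev, inv_inv, ← mul_assoc] at this

theorem card_range (hA : XYZBound) : Nat.card iota.range = 177408000 := by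
  rw [← Nat.card_congr (MonoidHom.ofInjective (iota_injective hA)).toEquiv, (exact_facts hA).1]

theorem card_HN (hA : XYZBound) : Nat.card Spor.HN = 273030912000000 := by
  rw [← iota.range.index_mul_card, index_range hA, card_range hA]

theorem finite_HN (hA : XYZBound) : Finite Spor.HN :=
  Nat.finite_of_card_ne_zero (by rw [card_HN hA]; norm_num)

/-- the orbit number of a coset, numbered by increasing size -/
noncomputable def orbitOf (y : Spor.HN ⧸ iota.range) : Fin 9 :=
  (![0, 1, 4, 2, 5, 7, 8, 6, 3] : Fin 9 → Fin 9)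
    ((Equiv.ofBijective _ (toCos_bijective hA)).symm y).1

theorem orbitOf_base : orbitOf hA (QuotientGroup.mk 1) = 0 := by
  have h : (Equiv.ofBijective _ (toCos_bijective hA)).symm (QuotientGroup.mk 1) = basePt hA := by
    rw [Equiv.symm_apply_eq, Equiv.ofBijective_apply, toCos_base]
  unfold orbitOf
  erw [h]
  rfl

theorem orbitOf_size (i : Fin 9) : Nat.card {y // orbitOf hA y = i} =
    (![1, 1408, 2200, 5775, 35200, 123200, 277200, 354816, 739200] : Fin 9 → ℕ) i := by
  have := n0_fin hA
  let e := Equiv.ofBijective _ (toCos_bijective hA)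
  let π : Fin 9 → Fin 9 := ![0, 1, 4, 2, 5, 7, 8, 6, 3]
  let π' : Fin 9 → Fin 9 := ![0, 1, 3, 8, 2, 4, 7, 5, 6]
  have hl : ∀ j, π' (π j) = j := by decide
  have hr : ∀ j, π (π' j) = j := by decide
  have hsz : ∀ j : Fin 9, orbSizes.getD (π' j) 0 =
      (![1, 1408, 2200, 5775, 35200, 123200, 277200, 354816, 739200] : Fin 9 → ℕ) j := by decide +kernel
  rw [← hsz i, ← card_orbit hA (π' i)]
  refine Nat.card_congr ?_
  refine ((Equiv.subtypeEquiv (q := fun x : (setting hA).Pts => (x.1 : Fin 9) = π' i) e.symm ?_).trans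
    (Equiv.sigmaSubtype (β := fun j : Fin 9 => N0 ⧸ (setting hA).stab j) (π' i)))
  intro y
  constructor
  · intro h
    rw [← h]
    exact (hl _).symm
  · intro h
    show π (e.symm y).1 = i
    rw [h, hr]

theorem orbitOf_trans {a b : Spor.HN ⧸ iota.range} (h : orbitOf hA a = orbitOf hA b) :
    ∃ n ∈ iota.range, n • a = b := by
  have := n0_fin hA
  obtain ⟨K, hK, hd⟩ := valid_done hA
  obtain ⟨x, rfl⟩ := (toCos_bijective hA).2 a
  obtain ⟨x', rfl⟩ := (toCos_bijective hA).2 b
  simp only [orbitOf, ← Equiv.ofBijective_apply _ (toCos_bijective hA), Equiv.symm_apply_apply] at h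
  have hinj : Function.Injective (![0, 1, 4, 2, 5, 7, 8, 6, 3] : Fin 9 → Fin 9) := by decide
  have h1 := hinj h
  obtain ⟨i, q⟩ := x
  obtain ⟨i', q'⟩ := x'
  obtain rfl : i = i' := h1
  obtain ⟨g, rfl⟩ := QuotientGroup.mk_surjective q
  obtain ⟨g', rfl⟩ := QuotientGroup.mk_surjective q'
  refine ⟨iota (g' * g⁻¹), ⟨_, rfl⟩, ?_⟩
  refine ((amalgam hA).toCos_act hK hd (g' * g⁻¹) _).symm.trans (congrArg _ ?_)
  show (setting hA).pt i i.2 ((g' * g⁻¹) * g) = (setting hA).pt i i.2 g'
  rw [inv_mul_cancel_right]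

end HN
end H77
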