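import Mathlib
import Cfsg.Agent.H77.HN.Facts
import Cfsg.Agent.H77.A2.Bound

/-!
The bound on the subgroup generated by x, y, z holds, so the facts about the presented
Harada–Norton group hold unconditionally.
-/

set_option autoImplicit false

namespace H77
namespace HN

theorem xyzBound : XYZBound := A2.xyzBound

end HN
end H77
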